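import Groth.Prelude.Def_GmAct
import Mathlib.RingTheory.Flat.EquationalCriterion
import Mathlib.RingTheory.MvPowerSeries.Basic
import Mathlib.RingTheory.PowerSeries.Substitution

/-! The algebraic obstruction: `(st)^(N-1)` is not in `(s^N, t^N)` near the node. -/

set_option autoImplicit false

universe u

open ThetaS

namespace Groth.Agent.STPunc22.Alg

variable (k : Type u) [Field k]

abbrev R0 : Type u := PowerSeries k

abbrev A0 : Type u := STRing (R0 k) PowerSeries.X

noncomputable abbrev sA : A0 k := sFn (R0 k) PowerSeries.X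
noncomputable abbrev tA : A0 k := tFn (R0 k) PowerSeries.X

noncomputable abbrev P : MvPowerSeries (Fin 2) k := MvPowerSeries.X 0 * MvPowerSeries.X 1

theorem hasSubst : PowerSeries.HasSubst (P k) :=
  PowerSeries.HasSubst.of_constantCoeff_zero (by simp [P])

noncomputable def ψ : A0 k →+* MvPowerSeries (Fin 2) k :=
  letI : Algebra (R0 k) (MvPowerSeries (Fin 2) k) := (PowerSeries.substAlgHom (hasSubst k)).toRingHom.toAlgebra
  (stPt (R := R0 k) (π := PowerSeries.X) (MvPowerSeries.X 0 : MvPowerSeries (Fin 2) k) (MvPowerSeries.X 1) (by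
    change _ = PowerSeries.substAlgHom (hasSubst k) PowerSeries.X
    rw [PowerSeries.substAlgHom_X])).toRingHom

@[simp] theorem ψ_s : ψ k (sA k) = MvPowerSeries.X 0 := by
  let : Algebra (R0 k) (MvPowerSeries (Fin 2) k) := (PowerSeries.substAlgHom (hasSubst k)).toRingHom.toAlgebra
  exact stPt_sFn _ _ _

@[simp] theorem ψ_t : ψ k (tA k) = MvPowerSeries.X 1 := by
  let : Algebra (R0 k) (MvPowerSeries (Fin 2) k) := (PowerSeries.substAlgHom (hasSubst k)).toRingHom.toAlgebra
  exact stPt_tFn _ _ _

noncomputable def node : PrimeSpectrum (A0 k) :=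
  ⟨RingHom.ker (MvPowerSeries.constantCoeff.comp (ψ k)), RingHom.ker_isPrime _⟩

theorem not_mem_span (u : A0 k) (hu : u ∉ (node k).asIdeal) (n : ℕ) :
    u * (sA k * tA k) ^ n ∉ Ideal.span {sA k ^ (n + 1), tA k ^ (n + 1)} := by
  classical
  intro h
  obtain ⟨a, b, hab⟩ := Ideal.mem_span_pair.mp h
  let e : Fin 2 →₀ ℕ := Finsupp.single 0 n + Finsupp.single 1 n
  have h' := congrArg (fun x => MvPowerSeries.coeff e (ψ k x)) hab
  have hP : (MvPowerSeries.X 0 * MvPowerSeries.X 1 : MvPowerSeries (Fin 2) k) ^ n = MvPowerSeries.monomial e 1 := by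
    rw [mul_pow, MvPowerSeries.X_pow_eq, MvPowerSeries.X_pow_eq, MvPowerSeries.monomial_mul_monomial, one_mul]
  simp only [map_add, map_mul, map_pow, ψ_s, ψ_t] at h'
  rw [hP, MvPowerSeries.X_pow_eq, MvPowerSeries.X_pow_eq, MvPowerSeries.coeff_mul_monomial,
    MvPowerSeries.coeff_mul_monomial, MvPowerSeries.coeff_mul_monomial] at h'
  rw [if_neg (fun hle => by simpa [e] using hle 0), if_neg (fun hle => by simpa [e] using hle 1), if_pos le_rfl,
    add_zero, tsub_self, mul_one, MvPowerSeries.coeff_zero_eq_constantCoeff] at h'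
  exact hu (RingHom.mem_ker.mpr h'.symm)

theorem s_mem : sA k ∈ (node k).asIdeal := RingHom.mem_ker.mpr (by simp)
theorem t_mem : tA k ∈ (node k).asIdeal := RingHom.mem_ker.mpr (by simp)

/-- No flat local algebra at the node sees the relation. -/
theorem false_of_flat {L : Type u} [CommRing L] [Algebra (A0 k) L] [Module.Flat (A0 k) L]
    [IsLocalRing L] (hloc : (IsLocalRing.maximalIdeal L).comap (algebraMap (A0 k) L) = (node k).asIdeal)
    (n : ℕ) (α β : L)
    (h : algebraMap (A0 k) L ((sA k * tA k) ^ n) =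
      α * algebraMap (A0 k) L (sA k ^ (n + 1)) + β * algebraMap (A0 k) L (tA k ^ (n + 1))) : False := by
  let f : Fin 3 → A0 k := ![(sA k * tA k) ^ n, -sA k ^ (n + 1), -tA k ^ (n + 1)]
  let x : Fin 3 → L := ![1, α, β]
  have h0 : ∑ i, f i • x i = 0 := by
    simp [Fin.sum_univ_three, f, x, Algebra.smul_def, h]
    ring
  obtain ⟨m, a, y, hx, ha⟩ := Module.Flat.isTrivialRelation_of_sum_smul_eq_zero (R := A0 k) (M := L) (f := f) (x := x) (by simpa [Algebra.smul_def] using h0)
  by_cases hall : ∀ j, a 0 j ∈ (node k).asIdeal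
  · have h1 : (1 : L) ∈ IsLocalRing.maximalIdeal L := by
      have := hx 0
      rw [show x 0 = 1 from rfl] at this
      rw [this]
      refine Ideal.sum_mem _ fun j _ => ?_
      rw [Algebra.smul_def]
      refine Ideal.mul_mem_right _ _ ?_
      have := hall j
      rwa [← hloc] at this
    exact (IsLocalRing.maximalIdeal.isMaximal L).ne_top ((Ideal.eq_top_iff_one _).mpr h1)
  · obtain ⟨j, hj⟩ := not_forall.mp hall
    refine not_mem_span k (a 0 j) hj n (Ideal.mem_span_pair.mpr ⟨a 1 j, a 2 j, ?_⟩)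
    have := ha j
    simp only [Fin.sum_univ_three, f, Matrix.cons_val_zero, Matrix.cons_val_one, Matrix.cons_val_two,
      Matrix.head_cons, Matrix.tail_cons] at this
    linear_combination -this

/-- The relation coming from a section over the punctured spectrum. -/
theorem exists_relation {L : Type u} [CommRing L] (σ τ p : L) (hp : σ * τ = p)
    (u0 : Localization.Away σ) (u1 : Localization.Away τ)
    (h : algebraMap L (Localization.Away (σ * τ)) p *
      (IsLocalization.Away.awayToAwayRight σ τ u0 - IsLocalization.Away.awayToAwayLeft τ σ u1) = 1) :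
    ∃ (n : ℕ) (α β : L), (σ * τ) ^ n = α * σ ^ (n + 1) + β * τ ^ (n + 1) := by
  obtain ⟨n, a, ha⟩ := IsLocalization.Away.surj σ u0
  obtain ⟨m, b, hb⟩ := IsLocalization.Away.surj τ u1
  have ha' := congrArg (IsLocalization.Away.awayToAwayRight (P := Localization.Away (σ * τ)) σ τ) ha
  have hb' := congrArg (IsLocalization.Away.awayToAwayLeft (P := Localization.Away (σ * τ)) τ σ) hb
  simp only [map_mul, map_pow, IsLocalization.Away.awayToAwayRight_eq,
    IsLocalization.Away.awayToAwayLeft_eq] at ha' hb'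
  have key : algebraMap L (Localization.Away (σ * τ)) (p * (a * τ ^ m - b * σ ^ n)) =
      algebraMap L (Localization.Away (σ * τ)) (σ ^ n * τ ^ m) := by
    simp only [map_mul, map_sub, map_pow]
    rw [← ha', ← hb']
    linear_combination (algebraMap L (Localization.Away (σ * τ)) σ ^ n *
      algebraMap L (Localization.Away (σ * τ)) τ ^ m) * h
  obtain ⟨⟨c, l, rfl⟩, hc⟩ := (IsLocalization.eq_iff_exists (Submonoid.powers (σ * τ)) _).mp key
  subst hp
  refine ⟨n + m + l, -b * τ ^ (n + l + 1), a * σ ^ (m + l + 1), ?_⟩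
  simp only [mul_pow] at hc ⊢
  linear_combination -(σ ^ m * τ ^ n) * hc

end Groth.Agent.STPunc22.Alg
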