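import Groth.Agent.STPunc22.Functor
import Groth.Agent.STPunc22.Alg
import Mathlib.AlgebraicGeometry.Morphisms.Flat
import Mathlib.RingTheory.DiscreteValuationRing.Basic
import Mathlib.RingTheory.PowerSeries.Inverse

/-! `BG_a` is not S-complete: the torsor on the punctured stack does not extend. -/

set_option autoImplicit false
set_option backward.isDefEq.respectTransparency false
set_option backward.isDefEq.respectTransparency.types false
set_option maxHeartbeats 1000000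

universe u

noncomputable section

open CategoryTheory CategoryTheory.Limits MonoidalCategory CartesianMonoidalCategory MonObj AlgebraicGeometry
  Opposite ThetaS

namespace Groth.Agent.STPunc22.Main

open Torsor Functor

local notation "K₀" => Scheme.fppfPrecoverage

theorem flat_fromSpecStalk {X : Scheme.{u}} (x : X) : Flat (X.fromSpecStalk x) := by
  obtain ⟨U, hU, hxU, -⟩ := exists_isAffineOpen_mem_and_subset (show x ∈ (⊤ : X.Opens) from trivial)
  rw [← hU.fromSpecStalk_eq_fromSpecStalk hxU, IsAffineOpen.fromSpecStalk]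
  have : Flat (Spec.map (X.presheaf.germ U x hxU)) := by
    rw [HasRingHomProperty.Spec_iff (P := @Flat)]
    let : Algebra Γ(X, U) (X.presheaf.stalk x) := (X.presheaf.germ U x hxU).hom.toAlgebra
    have := hU.isLocalization_stalk ⟨x, hxU⟩
    exact IsLocalization.flat (X.presheaf.stalk x) (hU.primeIdealOf ⟨x, hxU⟩).asIdeal.primeCompl
  infer_instance

variable (k : Type u) [Field k]

abbrev hk : Spec (CommRingCat.of (Alg.R0 k)) ⟶ Spec (CommRingCat.of k) :=
  Spec.map (CommRingCat.ofHom (algebraMap k (Alg.R0 k)))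

abbrev πR : Alg.R0 k := PowerSeries.X

abbrev XR : Over (Spec (CommRingCat.of (Alg.R0 k))) := STSch (Alg.R0 k) (πR k)

/-- The complement of the node. -/
abbrev U0 : (XR k).left.Opens := Functor.Us (π := πR k) ⊔ Functor.Ut (π := πR k)

abbrev XU : Over (Spec (CommRingCat.of (Alg.R0 k))) := Over.mk ((U0 k).ι ≫ (XR k).hom)

abbrev jU : XU k ⟶ XR k := Over.homMk (U0 k).ι rfl

abbrev qm := AlgSt.quotMap Scheme.fppfPrecoverage.{u} (ThetaS.Gm (Alg.R0 k)) (stAction (Alg.R0 k) (πR k))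

def AX : (STR K₀ (Alg.R0 k) (πR k)).obj := (qm k).obj ⟨XR k, ⟨𝟙 (XR k)⟩⟩

def AU : (STR K₀ (Alg.R0 k) (πR k)).obj := (qm k).obj ⟨XU k, ⟨jU k⟩⟩

def ρ : AU k ⟶ AX k :=
  have e : jU k ≫ 𝟙 (XR k) = jU k := Category.comp_id _
  (qm k).map ⟨jU k, congrArg ULift.up e⟩

theorem ρ_base : (ρ k).base = jU k := rfl

theorem phi_mem (p : (AU k).P.left) {V : (XR k).left.Opens}
    (hV : ∀ z : ↥(ThetaS.Gm (Alg.R0 k) ⊗ STSch (Alg.R0 k) (πR k)).left,
      (stAction (Alg.R0 k) (πR k)).act.left z ∈ V ↔ (snd (ThetaS.Gm (Alg.R0 k)) (STSch (Alg.R0 k) (πR k))).left z ∈ V) :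
    (AU k).φ.left p ∈ V ↔ (U0 k).ι ((AU k).π.left p) ∈ V := by
  have e1 : (AU k).φ.left p = (stAction (Alg.R0 k) (πR k)).act.left ((ThetaS.Gm (Alg.R0 k) ◁ jU k).left p) := rfl
  have e2 : (U0 k).ι ((AU k).π.left p) =
      (snd (ThetaS.Gm (Alg.R0 k)) (STSch (Alg.R0 k) (πR k))).left ((ThetaS.Gm (Alg.R0 k) ◁ jU k).left p) :=
    (congrArg (fun f : ThetaS.Gm (Alg.R0 k) ⊗ XU k ⟶ XR k => f.left.base p)
      (whiskerLeft_snd (ThetaS.Gm (Alg.R0 k)) (jU k))).symm
  rw [e1, e2]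
  exact hV _

theorem missesNode_AU : MissesNode (AU k) := by
  refine top_le_iff.mp fun p _ => ?_
  have hmem : (U0 k).ι ((AU k).π.left p) ∈ U0 k := ((AU k).π.left p).2
  rcases hmem with h | h
  · refine Or.inl ?_
    have := (phi_mem k p Functor.hUs).mpr h
    show p ∈ (AU k).P.left.basicOpen _
    rw [← Scheme.preimage_basicOpen_top]; exact this
  · refine Or.inr ?_
    have := (phi_mem k p Functor.hUt).mpr h
    show p ∈ (AU k).P.left.basicOpen _
    rw [← Scheme.preimage_basicOpen_top]; exact this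

abbrev datU : Dat (πR k) := Functor.dat (AU k) (missesNode_AU k)

theorem mem_Ts (t : (AU k).base.left) :
    (t ∈ (datU k).Ts ↔ (U0 k).ι t ∈ Functor.Us (π := πR k)) ∧
      (t ∈ (datU k).Tt ↔ (U0 k).ι t ∈ Functor.Ut (π := πR k)) := by
  obtain ⟨p, rfl⟩ := Functor.surjective_π (AU k) t
  exact ⟨(Functor.mem_img (AU k) Functor.hUs p).trans (phi_mem k p Functor.hUs),
    (Functor.mem_img (AU k) Functor.hUt p).trans (phi_mem k p Functor.hUt)⟩

theorem map_comp_lift {C : Type (u + 1)} [Category.{u} C] {𝒜 ℬ 𝒴 : BasedCategory.{u, u + 1} C}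
    (j : 𝒜 ⥤ᵇ ℬ) (F : ℬ ⥤ᵇ 𝒴) (T : 𝒜 ⥤ᵇ 𝒴) (α : T ⟶ BasedFunctor.comp j F) (a : 𝒜.obj) {b : ℬ.obj}
    (g : j.obj a ⟶ b) :
    𝒴.p.map (α.toNatTrans.app a ≫ F.map g) ≫ eqToHom (BasedFunctor.w_obj F b) =
      eqToHom ((BasedFunctor.w_obj T a).trans (BasedFunctor.w_obj j a).symm) ≫ ℬ.p.map g := by
  have h1 := @IsHomLift.fac' _ _ _ _ 𝒴.p _ _ _ _ _ _ (α.isHomLift' a)
  have h2 := CategoryTheory.Functor.congr_hom F.w g
  simp only [CategoryTheory.Functor.comp_map] at h2
  rw [CategoryTheory.Functor.map_comp, h1, h2]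
  simp

/-- The square to be filled. -/
def square : LiftSq.Sq (stIncl K₀ (Alg.R0 k) (πR k) (hk k))
    (FibCat.toSelf (AlgSt.BG K₀ (Red.Ga (Spec (CommRingCat.of k))))) :=
  ⟨Functor.Φ (πR k) (hk k), FibCat.toSelf _, Iso.refl _⟩

/-- An extension of the torsor functor gives a torsor on the whole chart. -/
theorem exists_extension
    (hSC : ThetaS.IsSCompleteOver K₀ (AlgSt.BG K₀ (Red.Ga (Spec (CommRingCat.of k))))) :
    ∃ (Q : AlgSt.QuotObj K₀ (Red.Ga (Spec (CommRingCat.of k))) (AlgSt.trivAction _))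
      (χ : Torsor.obj (hk k) (datU k) ⟶ Q) (c : Q.base ≅ (Over.map (hk k)).obj (XR k)),
      χ.base ≫ c.hom = (Over.map (hk k)).map (jU k) := by
  obtain ⟨d⟩ := (hSC (Alg.R0 k) (πR k) PowerSeries.X_prime.irreducible (hk k) (square k)).1
  let AUP : (stPunc K₀ (Alg.R0 k) (πR k) (hk k)).obj := ⟨AU k, missesNode_AU k⟩
  have key := map_comp_lift (stIncl K₀ (Alg.R0 k) (πR k) (hk k)) d.fn (square k).top d.isoTop.inv AUP
    (b := AX k) (ρ k)
  refine ⟨d.fn.obj (AX k), d.isoTop.inv.toNatTrans.app AUP ≫ d.fn.map (X := (AU k)) (Y := AX k) (ρ k),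
    eqToIso (BasedFunctor.w_obj d.fn (AX k)), ?_⟩
  exact key.trans (Category.id_comp _)

theorem solve_side {Y : Scheme.{u}} (D : Dat (πR k)) (q : Y ⟶ (Wopen D).toScheme) :
    ((∀ y, tq q y ∈ D.Ts) → ∃ u : Γ(Y, ⊤), pq (tq q) * u = wq q) ∧
      ((∀ y, tq q y ∈ D.Tt) → ∃ u : Γ(Y, ⊤), pq (tq q) * u = wq q - 1) := by
  refine ⟨fun hy => ?_, fun hy => ?_⟩
  · obtain ⟨u, hu, -⟩ := Solve.exists_solve (p := pq (tq q)) (m := wq q - 1) (dw := wq q) (dz := zq q)
      (top_le_iff.mp fun y _ => (branch q y).1 (hy y)) (by rw [rel]; ring)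
    exact ⟨u, hu⟩
  · obtain ⟨u, hu, -⟩ := Solve.exists_solve (p := pq (tq q)) (m := wq q) (dw := wq q - 1) (dz := zq q)
      (top_le_iff.mp fun y _ => (branch q y).2 (hy y)) (by rw [rel])
    exact ⟨u, hu⟩

theorem appTop_cst {L L' : Type u} [CommRing L] [CommRing L'] (φ : L →+* L') (a : L) :
    (Spec.map (CommRingCat.ofHom φ)).appTop ((Scheme.ΓSpecIso (CommRingCat.of L)).inv a) =
      (Scheme.ΓSpecIso (CommRingCat.of L')).inv (φ a) :=
  (ConcreteCategory.congr_hom (Scheme.ΓSpecIso_inv_naturality (CommRingCat.ofHom φ)) a).symm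

/-- A point in a basic open set. -/
theorem mem_branch {L L' : Type u} [CommRing L] [CommRing L'] (φ : Alg.A0 k →+* L) (jL : L →+* L') (a : Alg.A0 k)
    (ha : IsUnit (jL (φ a))) (y : Spec (CommRingCat.of L')) :
    (Spec.map (CommRingCat.ofHom jL) ≫ Spec.map (CommRingCat.ofHom φ)).base y ∈ (XR k).left.basicOpen (stFn a) := by
  rw [← Spec.map_comp]
  change _ ∈ (Spec (CommRingCat.of (Alg.A0 k))).basicOpen _
  rw [basicOpen_eq_of_affine]
  intro hm
  exact y.isPrime.ne_top (y.asIdeal.eq_top_of_isUnit_mem hm ha)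

theorem cst_eq {L L' : Type u} [CommRing L] [CommRing L'] (φ : Alg.A0 k →+* L) (jL : L →+* L') :
    cst ((Spec.map (CommRingCat.ofHom jL) ≫ Spec.map (CommRingCat.ofHom φ)) ≫ (XR k).hom) (πR k) =
      (Scheme.ΓSpecIso (CommRingCat.of L')).inv (jL (φ (Alg.sA k) * φ (Alg.tA k))) := by
  rw [← Functor.stFn_algebraMap, GmPts.appTop_comp_apply, ← sFn_mul_tFn]
  erw [appTop_cst, appTop_cst]
  rw [map_mul]

/-- Lifts through the punctured chart. -/
theorem exists_branch_pt (Q : AlgSt.QuotObj K₀ (Red.Ga (Spec (CommRingCat.of k))) (AlgSt.trivAction _))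
    (χ : Torsor.obj (hk k) (datU k) ⟶ Q) (cX : Q.base.left ≅ (XR k).left)
    (hcl : χ.base.left ≫ cX.hom = (U0 k).ι) {Y : Scheme.{u}} (g : Y ⟶ (XR k).left) (r : Y ⟶ Q.P.left)
    (hr : r ≫ Q.π.left ≫ cX.hom = g) (hg : ∀ y, g.base y ∈ U0 k) :
    ∃ q : Y ⟶ (Wopen (datU k)).toScheme, q ≫ χ.top.left = r ∧ tq q ≫ (U0 k).ι = g := by
  have hrange : Set.range g.base ⊆ Set.range (U0 k).ι.base := by
    rintro _ ⟨y, rfl⟩; erw [Scheme.Opens.range_ι]; exact hg y
  let α : Y ⟶ (XU k).left := IsOpenImmersion.lift (U0 k).ι g hrange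
  have sq := χ.cart.map (Over.forget _)
  have e : r ≫ Q.π.left = α ≫ χ.base.left := by
    rw [← cancel_mono cX.hom, Category.assoc, Category.assoc, hr, hcl, IsOpenImmersion.lift_fac]
  refine ⟨sq.lift r α e, sq.lift_fst r α e, ?_⟩
  have ht : tq (sq.lift r α e) = α := sq.lift_snd r α e
  rw [ht]
  exact IsOpenImmersion.lift_fac _ _ _

theorem branch_ext (Q : AlgSt.QuotObj K₀ (Red.Ga (Spec (CommRingCat.of k))) (AlgSt.trivAction _))
    (χ : Torsor.obj (hk k) (datU k) ⟶ Q) {Y : Scheme.{u}} (q q' : Y ⟶ (Wopen (datU k)).toScheme)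
    (h1 : q ≫ χ.top.left = q' ≫ χ.top.left) (h2 : tq q ≫ (U0 k).ι = tq q' ≫ (U0 k).ι) : q = q' := by
  have h3 : tq q = tq q' := (cancel_mono (U0 k).ι).mp h2
  exact (χ.cart.map (Over.forget _)).hom_ext h1 h3

theorem wq_spec (D : Dat (πR k)) {A B : CommRingCat.{u}} (r : Spec B ⟶ Spec A) (q : Spec A ⟶ (Wopen D).toScheme)
    (u v : Γ(Spec A, ⊤)) (hu : pq (tq q) * u = v) : pq (tq (r ≫ q)) * r.appTop u = r.appTop v := by
  have e : tq (r ≫ q) = r ≫ tq q := by simp only [tq, Category.assoc]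
  rw [e, pq_comp]
  exact (map_mul r.appTop.hom _ _).symm.trans (congrArg r.appTop.hom hu)

theorem relation_of_points (D : Dat (πR k)) {L : Type u} [CommRing L] (σ τ : L)
    (aR : Localization.Away σ →+* Localization.Away (σ * τ)) (aL : Localization.Away τ →+* Localization.Away (σ * τ))
    (haR : aR = IsLocalization.Away.awayToAwayRight σ τ) (haL : aL = IsLocalization.Away.awayToAwayLeft τ σ)
    (qs : Spec (CommRingCat.of (Localization.Away σ)) ⟶ (Wopen D).toScheme)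
    (qt : Spec (CommRingCat.of (Localization.Away τ)) ⟶ (Wopen D).toScheme)
    (hs : ∀ y, tq qs y ∈ D.Ts) (ht : ∀ y, tq qt y ∈ D.Tt)
    (hq : Spec.map (CommRingCat.ofHom aR) ≫ qs = Spec.map (CommRingCat.ofHom aL) ≫ qt)
    (hp : pq (tq (Spec.map (CommRingCat.ofHom aL) ≫ qt)) = (Scheme.ΓSpecIso _).inv
      (algebraMap L (Localization.Away (σ * τ)) (σ * τ))) :
    ∃ (n : ℕ) (α β : L), (σ * τ) ^ n = α * σ ^ (n + 1) + β * τ ^ (n + 1) := by
  obtain ⟨u0, hu0⟩ := (solve_side k D qs).1 hs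
  obtain ⟨u1, hu1⟩ := (solve_side k D qt).2 ht
  let rs := Spec.map (CommRingCat.ofHom aR)
  let rt := Spec.map (CommRingCat.ofHom aL)
  have k0 : pq (tq (rs ≫ qs)) * rs.appTop u0 = wq (rs ≫ qs) :=
    (wq_spec k D rs qs u0 _ hu0).trans (wq_comp rs qs).symm
  have k1 : pq (tq (rt ≫ qt)) * rt.appTop u1 = wq (rt ≫ qt) - 1 := by
    rw [wq_spec k D rt qt u1 _ hu1, wq_comp, _root_.map_sub, map_one]
  rw [show rs ≫ qs = rt ≫ qt from hq] at k0
  have key : pq (tq (rt ≫ qt)) * (rs.appTop u0 - rt.appTop u1) = 1 := by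
    linear_combination k0 - k1
  rw [hp] at key
  have key' := congrArg (Scheme.ΓSpecIso _).hom.hom key
  rw [map_mul, _root_.map_sub, map_one] at key'
  have n0 : (Scheme.ΓSpecIso _).hom (rs.appTop u0) = aR ((Scheme.ΓSpecIso _).hom u0) :=
    ConcreteCategory.congr_hom (Scheme.ΓSpecIso_naturality (CommRingCat.ofHom aR)) u0
  have n1 : (Scheme.ΓSpecIso _).hom (rt.appTop u1) = aL ((Scheme.ΓSpecIso _).hom u1) :=
    ConcreteCategory.congr_hom (Scheme.ΓSpecIso_naturality (CommRingCat.ofHom aL)) u1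
  erw [n0, n1, ← CommRingCat.comp_apply, Iso.inv_hom_id] at key'
  subst haR haL
  exact Alg.exists_relation σ τ (σ * τ) rfl _ _ key'

theorem right_comp {L : Type u} [CommRing L] (σ τ : L) :
    (IsLocalization.Away.awayToAwayRight σ τ : Localization.Away σ →+* Localization.Away (σ * τ)).comp
      (algebraMap L (Localization.Away σ)) = algebraMap L (Localization.Away (σ * τ)) :=
  RingHom.ext fun x => IsLocalization.Away.awayToAwayRight_eq σ τ x

theorem left_comp {L : Type u} [CommRing L] (σ τ : L) :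
    (IsLocalization.Away.awayToAwayLeft τ σ : Localization.Away τ →+* Localization.Away (σ * τ)).comp
      (algebraMap L (Localization.Away τ)) = algebraMap L (Localization.Away (σ * τ)) :=
  RingHom.ext fun x => IsLocalization.Away.awayToAwayLeft_eq τ σ x

/-- The relation forced by a section near the node. -/
theorem relation_of_section (Q : AlgSt.QuotObj K₀ (Red.Ga (Spec (CommRingCat.of k))) (AlgSt.trivAction _))
    (χ : Torsor.obj (hk k) (datU k) ⟶ Q) (cX : Q.base.left ≅ (XR k).left)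
    (hcl : χ.base.left ≫ cX.hom = (U0 k).ι) {L : Type u} [CommRing L] (φ : Alg.A0 k →+* L)
    (r : Spec (CommRingCat.of L) ⟶ Q.P.left) (hr : r ≫ Q.π.left ≫ cX.hom = Spec.map (CommRingCat.ofHom φ))
    (σ τ : L) (hσ : φ (Alg.sA k) = σ) (hτ : φ (Alg.tA k) = τ) :
    ∃ (n : ℕ) (α β : L), (σ * τ) ^ n = α * σ ^ (n + 1) + β * τ ^ (n + 1) := by
  let i0 := Spec.map (CommRingCat.ofHom (algebraMap L (Localization.Away σ)))
  let i1 := Spec.map (CommRingCat.ofHom (algebraMap L (Localization.Away τ)))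
  let aR : Localization.Away σ →+* Localization.Away (σ * τ) := IsLocalization.Away.awayToAwayRight σ τ
  let aL : Localization.Away τ →+* Localization.Away (σ * τ) := IsLocalization.Away.awayToAwayLeft τ σ
  have ms : ∀ y, (i0 ≫ Spec.map (CommRingCat.ofHom φ)).base y ∈ Functor.Us (π := πR k) := fun y =>
    mem_branch k φ _ _ (hσ.symm ▸ IsLocalization.Away.algebraMap_isUnit σ) y
  have mt : ∀ y, (i1 ≫ Spec.map (CommRingCat.ofHom φ)).base y ∈ Functor.Ut (π := πR k) := fun y =>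
    mem_branch k φ _ _ (hτ.symm ▸ IsLocalization.Away.algebraMap_isUnit τ) y
  obtain ⟨qs, hqs, hts⟩ := exists_branch_pt k Q χ cX hcl (i0 ≫ Spec.map (CommRingCat.ofHom φ)) (i0 ≫ r)
    (by rw [Category.assoc, hr]) fun y => Or.inl (ms y)
  obtain ⟨qt, hqt, htt⟩ := exists_branch_pt k Q χ cX hcl (i1 ≫ Spec.map (CommRingCat.ofHom φ)) (i1 ≫ r)
    (by rw [Category.assoc, hr]) fun y => Or.inr (mt y)
  have e0 : Spec.map (CommRingCat.ofHom aR) ≫ i0 =
      Spec.map (CommRingCat.ofHom (algebraMap L (Localization.Away (σ * τ)))) := by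
    rw [← Spec.map_comp, ← CommRingCat.ofHom_comp, right_comp]
  have e1' : Spec.map (CommRingCat.ofHom aL) ≫ i1 =
      Spec.map (CommRingCat.ofHom (algebraMap L (Localization.Away (σ * τ)))) := by
    rw [← Spec.map_comp, ← CommRingCat.ofHom_comp, left_comp]
  have e01 : Spec.map (CommRingCat.ofHom aR) ≫ i0 = Spec.map (CommRingCat.ofHom aL) ≫ i1 := e0.trans e1'.symm
  have hq : Spec.map (CommRingCat.ofHom aR) ≫ qs = Spec.map (CommRingCat.ofHom aL) ≫ qt := by
    refine branch_ext k Q χ _ _ ?_ ?_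
    · rw [Category.assoc, Category.assoc, hqs, hqt, ← Category.assoc, e01, Category.assoc]
    · simp only [tq, Category.assoc] at hts htt ⊢
      rw [hts, htt, ← Category.assoc, e01, Category.assoc]
  refine relation_of_points k (datU k) σ τ aR aL rfl rfl qs qt (fun y => ?_) (fun y => ?_) hq ?_
  · rw [(mem_Ts k _).1]
    change (tq qs ≫ (U0 k).ι).base y ∈ _
    rw [hts]; exact ms y
  · rw [(mem_Ts k _).2]
    change (tq qt ≫ (U0 k).ι).base y ∈ _
    rw [htt]; exact mt y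
  · have e : tq (Spec.map (CommRingCat.ofHom aL) ≫ qt) ≫ (datU k).T.hom =
        (Spec.map (CommRingCat.ofHom (algebraMap L (Localization.Away (σ * τ)))) ≫
          Spec.map (CommRingCat.ofHom φ)) ≫ (XR k).hom := by
      have e1 : Spec.map (CommRingCat.ofHom (algebraMap L (Localization.Away (σ * τ)))) =
          Spec.map (CommRingCat.ofHom aL) ≫ i1 := e1'.symm
      change tq (Spec.map (CommRingCat.ofHom aL) ≫ qt) ≫ (U0 k).ι ≫ (XR k).hom = _
      rw [e1]
      simp only [tq, Category.assoc] at htt ⊢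
      rw [reassoc_of% htt]
    rw [pq, e, cst_eq, hσ, hτ]

theorem not_isSCompleteOver :
    ¬ ThetaS.IsSCompleteOver K₀ (AlgSt.BG K₀ (Red.Ga (Spec (CommRingCat.of k)))) := by
  intro hSC
  obtain ⟨Q, χ, c, hc⟩ := exists_extension k hSC
  let cX : Q.base.left ≅ (XR k).left := (Over.forget _).mapIso c
  have hcl : χ.base.left ≫ cX.hom = (U0 k).ι := congrArg CommaMorphism.left hc
  obtain ⟨Cv, hC, hsec⟩ := Q.loc
  obtain ⟨S', f, hf, q, hq⟩ : ∃ (S' : Scheme.{u}) (f : S' ⟶ Q.base.left), Cv f ∧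
      ∃ q, f.base q = cX.inv.base (Alg.node k) := by
    obtain ⟨Y, g, ⟨hg⟩, hp⟩ := hC.1 (cX.inv.base (Alg.node k))
    exact ⟨_, _, hg, hp⟩
  obtain ⟨σ, hσ⟩ := hsec _ hf
  have hσ' : σ ≫ Q.π.left = f := hσ
  have : Flat f := (hC.2 hf).1
  have := flat_fromSpecStalk q
  let L : CommRingCat.{u} := S'.presheaf.stalk q
  let g' : Spec L ⟶ (XR k).left := S'.fromSpecStalk q ≫ f ≫ cX.hom
  obtain ⟨φ, hφ⟩ := Spec.map_surjective (R := CommRingCat.of (Alg.A0 k)) (S := L) g'
  let : Algebra (Alg.A0 k) L := φ.hom.toAlgebra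
  have : Module.Flat (Alg.A0 k) L := by
    have hfl : Flat (Spec.map φ) := by rw [hφ]; infer_instance
    exact (HasRingHomProperty.Spec_iff (P := @Flat)).mp hfl
  have hg'c : g'.base (IsLocalRing.closedPoint L) = Alg.node k := by
    change cX.hom.base (f.base ((S'.fromSpecStalk q).base _)) = _
    rw [Scheme.fromSpecStalk_closedPoint, hq]
    exact congrArg (fun m : (XR k).left ⟶ (XR k).left => m.base (Alg.node k)) cX.inv_hom_id
  have hloc : (IsLocalRing.maximalIdeal L).comap (algebraMap (Alg.A0 k) L) = (Alg.node k).asIdeal := by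
    rw [← hφ] at hg'c
    exact congrArg PrimeSpectrum.asIdeal hg'c
  have hr : (S'.fromSpecStalk q ≫ σ) ≫ Q.π.left ≫ cX.hom = Spec.map (CommRingCat.ofHom φ.hom) := by
    rw [Category.assoc, reassoc_of% hσ']
    exact hφ.symm
  obtain ⟨n, α, β, hn⟩ := relation_of_section k Q χ cX hcl φ.hom _ hr _ _ rfl rfl
  refine Alg.false_of_flat k hloc n α β ?_
  simp only [map_pow, map_mul]
  exact hn

end Groth.Agent.STPunc22.Main
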