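import Groth.Agent.STPunc22.Torsor
import Groth.Prelude.Def_ThetaS

/-! The branches of an object of the punctured two-branched stack and the functor to `BG_a`. -/

set_option autoImplicit false
set_option backward.isDefEq.respectTransparency false
set_option backward.isDefEq.respectTransparency.types false

universe u

noncomputable section

open CategoryTheory CategoryTheory.Limits MonoidalCategory CartesianMonoidalCategory MonObj AlgebraicGeometry
  Opposite ThetaS

namespace Groth.Agent.STPunc22.Functor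

variable {R : Type u} [CommRing R] {π : R}

local notation "K₀" => Scheme.fppfPrecoverage

theorem exists_pt {K B : Type u} [CommRing K] [Algebra R K] [CommRing B] [Algebra R B]
    (x : CoactBr.sp R K ⟶ CoactBr.sp R B) : ∃ φ : B →ₐ[R] K, x = CoactBr.pt φ := by
  obtain ⟨g, hg⟩ := Spec.map_surjective x.left
  have e : CommRingCat.ofHom (algebraMap R B) ≫ g = CommRingCat.ofHom (algebraMap R K) := by
    apply Spec.map_injective
    rw [Spec.map_comp, hg]
    exact Over.w x
  refine ⟨⟨g.hom, fun r => ConcreteCategory.congr_hom e r⟩, ?_⟩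
  apply Over.OverMorphism.ext
  rw [CoactBr.pt_left, ← hg]
  rfl

theorem mem_basicOpen_pt {K : Type u} [Field K] [Algebra R K] {B : Type u} [CommRing B] [Algebra R B]
    (φ : B →ₐ[R] K) (b : B) (p : Spec (CommRingCat.of K)) :
    (CoactBr.pt φ).left p ∈ (CoactBr.sp R B).left.basicOpen ((Scheme.ΓSpecIso (CommRingCat.of B)).inv b) ↔
      φ b ≠ 0 := by
  change (CoactBr.pt φ).left p ∈ (Spec (CommRingCat.of B)).basicOpen _ ↔ _
  rw [basicOpen_eq_of_affine, CoactBr.pt_left]
  change b ∉ Ideal.comap φ.toRingHom p.asIdeal ↔ _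
  rw [Ideal.eq_bot_of_prime p.asIdeal, Ideal.mem_comap, Ideal.mem_bot]
  rfl

abbrev Us : (STSch R π).left.Opens := (STSch R π).left.basicOpen (stFn (sFn R π))
abbrev Ut : (STSch R π).left.Opens := (STSch R π).left.basicOpen (stFn (tFn R π))

theorem mem_act_iff (z : ↥(Gm R ⊗ STSch R π).left) :
    ((stAction R π).act.left z ∈ Us (π := π) ↔ (snd (Gm R) (STSch R π)).left z ∈ Us (π := π)) ∧
      ((stAction R π).act.left z ∈ Ut (π := π) ↔ (snd (Gm R) (STSch R π)).left z ∈ Ut (π := π)) := by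
  let Z := (Gm R ⊗ STSch R π).left
  let K := Z.residueField z
  obtain ⟨g, hg⟩ := Spec.map_surjective (Z.fromSpecResidueField z ≫ (Gm R ⊗ STSch R π).hom)
  letI : Algebra R K := g.hom.toAlgebra
  let x : CoactBr.sp R K ⟶ Gm R ⊗ STSch R π := Over.homMk (Z.fromSpecResidueField z) hg.symm
  obtain ⟨lam, hlam⟩ := exists_pt (x ≫ fst (Gm R) (STSch R π))
  obtain ⟨φ, hφ⟩ := exists_pt (x ≫ snd (Gm R) (STSch R π))
  have hab : φ (sFn R π) * φ (tFn R π) = algebraMap R K π := by
    rw [← map_mul, sFn_mul_tFn, AlgHom.commutes]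
  have hφ' : φ = stPt (φ (sFn R π)) (φ (tFn R π)) hab :=
    stRing_algHom_ext (stPt_sFn _ _ _).symm (stPt_tFn _ _ _).symm
  have hx : x ≫ (stAction R π).act =
      lift (CoactBr.pt lam) (CoactBr.pt (stPt (φ (sFn R π)) (φ (tFn R π)) hab)) ≫ (stAction R π).act := by
    rw [← hφ', ← hlam, ← hφ, ← comp_lift, lift_fst_snd, Category.comp_id]
  rw [stAction_pt] at hx
  let c : Spec (CommRingCat.of K) := IsLocalRing.closedPoint K
  have hz : x.left c = z := Z.fromSpecResidueField_apply z c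
  have h1 : (stAction R π).act.left z = (x ≫ (stAction R π).act).left c := by rw [← hz]; rfl
  have h2 : (snd (Gm R) (STSch R π)).left z = (x ≫ snd (Gm R) (STSch R π)).left c := by rw [← hz]; rfl
  have hu : ∀ m n : ℤ, m + n = 0 → lam (zPow R m) ≠ 0 := fun m n hmn h0 => by
    have := congrArg lam (show zPow R m * zPow R n = 1 by rw [zPow_mul, hmn, zPow_zero])
    rw [map_mul, h0, zero_mul, map_one] at this
    exact zero_ne_one this
  rw [h1, h2, hx, hφ]
  constructor
  · refine (mem_basicOpen_pt _ (sFn R π) c).trans (Iff.trans ?_ (mem_basicOpen_pt φ (sFn R π) c).symm)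
    simp [hu 1 (-1) (by norm_num)]
  · refine (mem_basicOpen_pt _ (tFn R π) c).trans (Iff.trans ?_ (mem_basicOpen_pt φ (tFn R π) c).symm)
    simp [hu (-1) 1 (by norm_num)]

variable (A : (STR K₀ R π).obj)

/-- A branch of the torsor. -/
abbrev Pp (U : (STSch R π).left.Opens) : A.P.left.Opens := A.φ.left ⁻¹ᵁ U

theorem mem_of_eq {U : (STSch R π).left.Opens}
    (hU : ∀ z : ↥(Gm R ⊗ STSch R π).left,
      (stAction R π).act.left z ∈ U ↔ (snd (Gm R) (STSch R π)).left z ∈ U)
    {p p' : A.P.left} (e : A.π.left p = A.π.left p') (hp : p ∈ Pp A U) : p' ∈ Pp A U := by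
  have sq := A.cart.map (Over.forget _)
  obtain ⟨w, hw1, hw2⟩ := Scheme.Pullback.exists_preimage_pullback (f := A.π.left) (g := A.π.left) p p' e
  let z : ↥(Gm R ⊗ A.P).left := sq.isoPullback.inv w
  have hz1 : A.act.act.left z = p := by
    exact (congrArg (fun f : pullback A.π.left A.π.left ⟶ A.P.left => f.base w) sq.isoPullback_inv_fst).trans hw1
  have hz2 : (snd (Gm R) A.P).left z = p' := by
    exact (congrArg (fun f : pullback A.π.left A.π.left ⟶ A.P.left => f.base w) sq.isoPullback_inv_snd).trans hw2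
  have e1 : A.φ.left (A.act.act.left z) = (stAction R π).act.left ((Gm R ◁ A.φ).left z) := by
    rw [← Scheme.Hom.comp_apply, ← Scheme.Hom.comp_apply]
    exact congrArg (fun f => f.left.base z) A.eqv
  have e2 : A.φ.left ((snd (Gm R) A.P).left z) = (snd (Gm R) (STSch R π)).left ((Gm R ◁ A.φ).left z) := by
    rw [← Scheme.Hom.comp_apply, ← Scheme.Hom.comp_apply]
    exact congrArg (fun f => f.left.base z) (whiskerLeft_snd (Gm R) A.φ).symm
  change A.φ.left p' ∈ U
  rw [← hz2, e2, ← hU, ← e1, hz1]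
  exact hp

theorem isOpen_image {U : (STSch R π).left.Opens}
    (hU : ∀ z : ↥(Gm R ⊗ STSch R π).left,
      (stAction R π).act.left z ∈ U ↔ (snd (Gm R) (STSch R π)).left z ∈ U) :
    IsOpen (A.π.left.base '' (Pp A U : Set A.P.left)) := by
  obtain ⟨Cv, hC, hsec⟩ := A.loc
  rw [isOpen_iff_forall_mem_open]
  rintro _ ⟨p, hp, rfl⟩
  obtain ⟨S', f, hf, q, hq⟩ : ∃ (S' : Scheme.{u}) (f : S' ⟶ A.base.left), Cv f ∧ ∃ q, f.base q = A.π.left p := by
    obtain ⟨Y, g, ⟨hg⟩, hp⟩ := hC.1 (A.π.left p)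
    exact ⟨_, _, hg, hp⟩
  obtain ⟨σ, hσ⟩ := hsec _ hf
  have hfl := (hC.2 hf).1
  have hfp := (hC.2 hf).2
  have hq' : A.π.left (σ q) = A.π.left p := (congrArg (fun g : S' ⟶ A.base.left => g.base q) hσ).trans hq
  refine ⟨f.base '' (σ ⁻¹ᵁ Pp A U : Set S'), ?_, f.isOpenMap _ (σ ⁻¹ᵁ Pp A U).2, q,
    mem_of_eq A hU hq'.symm hp, hq⟩
  rintro _ ⟨r, hr, rfl⟩
  exact ⟨σ r, hr, congrArg (fun g : S' ⟶ A.base.left => g.base r) hσ⟩

theorem surjective_π : Function.Surjective A.π.left.base := by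
  intro t
  obtain ⟨Cv, hC, hsec⟩ := A.loc
  obtain ⟨S', f, hf, q, hq⟩ : ∃ (S' : Scheme.{u}) (f : S' ⟶ A.base.left), Cv f ∧ ∃ q, f.base q = t := by
    obtain ⟨Y, g, ⟨hg⟩, hp⟩ := hC.1 t
    exact ⟨_, _, hg, hp⟩
  obtain ⟨σ, hσ⟩ := hsec _ hf
  exact ⟨σ q, (congrArg (fun g : S' ⟶ A.base.left => g.base q) hσ).trans hq⟩

def img (U : (STSch R π).left.Opens)
    (hU : ∀ z : ↥(Gm R ⊗ STSch R π).left,
      (stAction R π).act.left z ∈ U ↔ (snd (Gm R) (STSch R π)).left z ∈ U) : A.base.left.Opens :=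
  ⟨A.π.left.base '' (Pp A U : Set A.P.left), isOpen_image A hU⟩

theorem mem_img {U : (STSch R π).left.Opens}
    (hU : ∀ z : ↥(Gm R ⊗ STSch R π).left,
      (stAction R π).act.left z ∈ U ↔ (snd (Gm R) (STSch R π)).left z ∈ U) (p : A.P.left) :
    A.π.left p ∈ img A U hU ↔ p ∈ Pp A U :=
  ⟨fun ⟨p', hp', e⟩ => mem_of_eq A hU e hp', fun hp => ⟨p, hp, rfl⟩⟩

theorem stFn_algebraMap (r : R) {Y : Scheme.{u}} (q : Y ⟶ (STSch R π).left) :
    q.appTop (stFn (algebraMap R (STRing R π) r)) = Torsor.cst (q ≫ (STSch R π).hom) r := by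
  rw [Torsor.cst, GmPts.appTop_comp_apply]
  congr 1
  exact ConcreteCategory.congr_hom
    (Scheme.ΓSpecIso_inv_naturality (CommRingCat.ofHom (algebraMap R (STRing R π)))) r

theorem hUs (z : ↥(Gm R ⊗ STSch R π).left) :
    (stAction R π).act.left z ∈ Us (π := π) ↔ (snd (Gm R) (STSch R π)).left z ∈ Us (π := π) :=
  (mem_act_iff z).1

theorem hUt (z : ↥(Gm R ⊗ STSch R π).left) :
    (stAction R π).act.left z ∈ Ut (π := π) ↔ (snd (Gm R) (STSch R π)).left z ∈ Ut (π := π) :=
  (mem_act_iff z).2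

/-- The branches of an object missing the node. -/
def dat (hA : MissesNode A) : Torsor.Dat π where
  T := A.base
  Ts := img A Us hUs
  Tt := img A Ut hUt
  cover := by
    refine top_le_iff.mp fun t _ => ?_
    obtain ⟨p, rfl⟩ := surjective_π A t
    rcases (show p ∈ A.P.left.basicOpen (A.φ.left.appTop (stFn (sFn R π))) ⊔
        A.P.left.basicOpen (A.φ.left.appTop (stFn (tFn R π))) from hA.symm ▸ trivial) with h | h
    · exact Or.inl ((mem_img A hUs p).mpr (show p ∈ A.φ.left ⁻¹ᵁ _ by rw [Scheme.preimage_basicOpen_top]; exact h))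
    · exact Or.inr ((mem_img A hUt p).mpr (show p ∈ A.φ.left ⁻¹ᵁ _ by rw [Scheme.preimage_basicOpen_top]; exact h))
  overlap := by
    rintro t ⟨hs, ht⟩
    obtain ⟨p, rfl⟩ := surjective_π A t
    have hs' : A.φ.left p ∈ Us (π := π) := (mem_img A hUs p).mp hs
    have ht' : A.φ.left p ∈ Ut (π := π) := (mem_img A hUt p).mp ht
    have h1 : A.φ.left p ∈ (STSch R π).left.basicOpen (stFn (algebraMap R (STRing R π) π)) := by
      rw [← sFn_mul_tFn, stFn, map_mul, Scheme.basicOpen_mul]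
      exact ⟨hs', ht'⟩
    have h2 : p ∈ A.P.left.basicOpen (A.φ.left.appTop (stFn (algebraMap R (STRing R π) π))) := by
      rw [← Scheme.preimage_basicOpen_top]; exact h1
    rw [stFn_algebraMap, Over.w A.φ, ← Over.w A.π, Torsor.cst_comp, ← Scheme.preimage_basicOpen_top] at h2
    exact h2

variable {A} {B : (STR K₀ R π).obj} (g : A ⟶ B)

theorem preimage_img {U : (STSch R π).left.Opens}
    (hU : ∀ z : ↥(Gm R ⊗ STSch R π).left,
      (stAction R π).act.left z ∈ U ↔ (snd (Gm R) (STSch R π)).left z ∈ U) :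
    g.base.left ⁻¹ᵁ img B U hU = img A U hU := by
  ext t
  obtain ⟨p, rfl⟩ := surjective_π A t
  have e : g.base.left (A.π.left p) = B.π.left (g.top.left p) :=
    (congrArg (fun f => f.left.base p) g.cart.w).symm
  have e' : B.φ.left (g.top.left p) = A.φ.left p := congrArg (fun f => f.left.base p) g.wφ
  change g.base.left (A.π.left p) ∈ img B U hU ↔ A.π.left p ∈ img A U hU
  rw [e, mem_img, mem_img]
  change B.φ.left (g.top.left p) ∈ U ↔ A.φ.left p ∈ U
  rw [e']

variable {k : Type u} [Field k] (π) (h : Spec (CommRingCat.of R) ⟶ Spec (CommRingCat.of k))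

theorem hom_ext' {D D' : Torsor.Dat π}
    {u v : Torsor.obj h D ⟶ Torsor.obj h D'} (hb : u.base = v.base)
    (hw : Torsor.wq (D := D') u.top.left = Torsor.wq (D := D') v.top.left)
    (hz : Torsor.zq (D := D') u.top.left = Torsor.zq (D := D') v.top.left) : u = v := by
  refine AlgSt.QuotObj.hom_ext hb (Over.OverMorphism.ext (Torsor.W_ext ?_ hw hz))
  have hu := congrArg CommaMorphism.left u.cart.w
  have hv := congrArg CommaMorphism.left v.cart.w
  exact hu.trans ((congrArg (fun b => (Torsor.proj h D).left ≫ b.left) hb).trans hv.symm)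

theorem wq_top {D D' : Torsor.Dat π} (f : D.T ⟶ D'.T) (hfs : f.left ⁻¹ᵁ D'.Ts = D.Ts)
    (hft : f.left ⁻¹ᵁ D'.Tt = D.Tt) :
    Torsor.wq (Torsor.topPt f hfs hft) = Torsor.wq (𝟙 (Torsor.Wopen D).toScheme) :=
  Torsor.wq_mk (D := D') _ _ _ _ _ _

theorem zq_top {D D' : Torsor.Dat π} (f : D.T ⟶ D'.T) (hfs : f.left ⁻¹ᵁ D'.Ts = D.Ts)
    (hft : f.left ⁻¹ᵁ D'.Tt = D.Tt) :
    Torsor.zq (Torsor.topPt f hfs hft) = Torsor.zq (𝟙 (Torsor.Wopen D).toScheme) :=
  Torsor.zq_mk (D := D') _ _ _ _ _ _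

/-- The map on torsors of a morphism of objects. -/
def mapHom {A B : (STR K₀ R π).obj} (hA : MissesNode A) (hB : MissesNode B) (g : A ⟶ B) :
    Torsor.obj h (dat A hA) ⟶ Torsor.obj h (dat B hB) :=
  Torsor.hom h (D := dat A hA) (D' := dat B hB) g.base (preimage_img g hUs) (preimage_img g hUt)

theorem wq_mapHom {A B : (STR K₀ R π).obj} (hA : MissesNode A) (hB : MissesNode B) (g : A ⟶ B) :
    Torsor.wq (D := dat B hB) (mapHom π h hA hB g).top.left =
        Torsor.wq (D := dat A hA) (𝟙 (Torsor.Wopen (dat A hA)).toScheme) ∧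
      Torsor.zq (D := dat B hB) (mapHom π h hA hB g).top.left =
        Torsor.zq (D := dat A hA) (𝟙 (Torsor.Wopen (dat A hA)).toScheme) :=
  ⟨wq_top π (D := dat A hA) (D' := dat B hB) g.base (preimage_img g hUs) (preimage_img g hUt),
    zq_top π (D := dat A hA) (D' := dat B hB) g.base (preimage_img g hUs) (preimage_img g hUt)⟩

theorem mapHom_id {A : (STR K₀ R π).obj} (hA : MissesNode A) : mapHom π h hA hA (𝟙 A) = 𝟙 _ :=
  hom_ext' π h ((Over.map h).map_id _) (wq_mapHom π h hA hA (𝟙 A)).1 (wq_mapHom π h hA hA (𝟙 A)).2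

theorem mapHom_comp {A B E : (STR K₀ R π).obj} (hA : MissesNode A) (hB : MissesNode B) (hE : MissesNode E)
    (f : A ⟶ B) (g : B ⟶ E) : mapHom π h hA hE (f ≫ g) = mapHom π h hA hB f ≫ mapHom π h hB hE g := by
  refine hom_ext' π h ((Over.map h).map_comp _ _) ?_ ?_
  · refine (wq_mapHom π h hA hE (f ≫ g)).1.trans (Eq.symm ?_)
    exact (Torsor.wq_topPt (D := dat B hB) (D' := dat E hE) g.base (preimage_img g hUs) (preimage_img g hUt)
      (mapHom π h hA hB f).top.left).trans (wq_mapHom π h hA hB f).1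
  · refine (wq_mapHom π h hA hE (f ≫ g)).2.trans (Eq.symm ?_)
    exact (Torsor.zq_topPt (D := dat B hB) (D' := dat E hE) g.base (preimage_img g hUs) (preimage_img g hUt)
      (mapHom π h hA hB f).top.left).trans (wq_mapHom π h hA hB f).2

/-- The torsor functor. -/
def Φ : stPunc K₀ R π h ⥤ᵇ AlgSt.BG K₀ (Red.Ga (Spec (CommRingCat.of k))) where
  toFunctor :=
    { obj := fun A => Torsor.obj h (dat A.obj A.property)
      map := fun {A B} g => mapHom π h A.property B.property g.hom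
      map_id := fun A => mapHom_id π h A.property
      map_comp := fun {A B E} f g => mapHom_comp π h A.property B.property E.property f.hom g.hom }
  w := rfl

end Groth.Agent.STPunc22.Functor
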