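import Groth.Agent.GrpSchLib.GaPts

/-! Global functions: unique solution of two linear equations with unimodular coefficients. -/

set_option autoImplicit false

universe u

open CategoryTheory AlgebraicGeometry Opposite TopologicalSpace

namespace Groth.Agent.STPunc22.Solve

variable {Y : Scheme.{u}}

/-- `y` is a zero of the global function `a`. -/
theorem mem_basicOpen_iff {a : Γ(Y, ⊤)} {y : Y} :
    y ∈ Y.basicOpen a ↔ (Y.Γevaluation y a) ≠ 0 :=
  (Y.evaluation_ne_zero_iff_mem_basicOpen (U := ⊤) y trivial a).symm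

theorem not_mem_basicOpen_iff {a : Γ(Y, ⊤)} {y : Y} :
    y ∉ Y.basicOpen a ↔ Y.Γevaluation y a = 0 := by
  rw [mem_basicOpen_iff, not_not]

theorem eq_zero_of_mul_eq {p m a : Γ(Y, ⊤)} (hcov : Y.basicOpen p ⊔ Y.basicOpen m = ⊤)
    (h1 : p * a = 0) (h2 : m * a = 0) : a = 0 := by
  let U : Bool → Y.Opens := fun b => if b then Y.basicOpen p else Y.basicOpen m
  refine Y.sheaf.eq_of_locally_eq' U ⊤ (fun b => homOfLE le_top)
    (by rw [iSup_bool_eq]; simp [hcov]) a 0 (fun b => ?_)
  rw [map_zero]
  cases b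
  · have h := congrArg (Y.presheaf.map (homOfLE (le_top : Y.basicOpen m ≤ ⊤)).op) h2
    rw [map_mul, map_zero] at h
    exact (Y.toLocallyRingedSpace.toRingedSpace.isUnit_res_basicOpen m).mul_right_eq_zero.mp h
  · have h := congrArg (Y.presheaf.map (homOfLE (le_top : Y.basicOpen p ≤ ⊤)).op) h1
    rw [map_mul, map_zero] at h
    exact (Y.toLocallyRingedSpace.toRingedSpace.isUnit_res_basicOpen p).mul_right_eq_zero.mp h

theorem unique_solve {p m a b : Γ(Y, ⊤)} (hcov : Y.basicOpen p ⊔ Y.basicOpen m = ⊤)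
    (h1 : p * a = p * b) (h2 : m * a = m * b) : a = b :=
  sub_eq_zero.mp (eq_zero_of_mul_eq hcov (by rw [mul_sub, h1, sub_self]) (by rw [mul_sub, h2, sub_self]))

theorem exists_solve {p m dw dz : Γ(Y, ⊤)} (hcov : Y.basicOpen p ⊔ Y.basicOpen m = ⊤)
    (hc : m * dw = p * dz) : ∃ a : Γ(Y, ⊤), p * a = dw ∧ m * a = dz := by
  let U : Bool → Y.Opens := fun b => if b then Y.basicOpen p else Y.basicOpen m
  obtain ⟨up, hup⟩ : IsUnit (Y.presheaf.map (homOfLE (le_top : Y.basicOpen p ≤ ⊤)).op p) :=
    Y.toLocallyRingedSpace.toRingedSpace.isUnit_res_basicOpen p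
  obtain ⟨um, hum⟩ : IsUnit (Y.presheaf.map (homOfLE (le_top : Y.basicOpen m ≤ ⊤)).op m) :=
    Y.toLocallyRingedSpace.toRingedSpace.isUnit_res_basicOpen m
  let res : ∀ {V : Y.Opens}, Γ(Y, ⊤) → Γ(Y, V) := fun {V} x => Y.presheaf.map (homOfLE (le_top : V ≤ ⊤)).op x
  have res_res : ∀ {V W : Y.Opens} (i : W ⟶ V) (x : Γ(Y, ⊤)), Y.presheaf.map i.op (res x) = res x :=
    fun i x => by rw [← CommRingCat.comp_apply, ← Functor.map_comp, ← op_comp]; rfl
  let sf : ∀ b, Γ(Y, U b) := fun b => match b with
    | true => ((up⁻¹ : Γ(Y, Y.basicOpen p)ˣ) : Γ(Y, Y.basicOpen p)) * res dw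
    | false => ((um⁻¹ : Γ(Y, Y.basicOpen m)ˣ) : Γ(Y, Y.basicOpen m)) * res dz
  have hp : res p * sf true = res dw := by
    change res p * (_ * res dw) = res dw
    rw [show res p = (up : Γ(Y, Y.basicOpen p)) from hup.symm, Units.mul_inv_cancel_left]
  have hm : res m * sf false = res dz := by
    change res m * (_ * res dz) = res dz
    rw [show res m = (um : Γ(Y, Y.basicOpen m)) from hum.symm, Units.mul_inv_cancel_left]
  have hp' : res m * sf true = res dz := by
    have hu : IsUnit (res (V := U true) p) := ⟨up, hup⟩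
    refine hu.mul_left_cancel ?_
    rw [mul_left_comm, hp]
    simpa only [res, map_mul] using congrArg (res (V := U true)) hc
  have hm' : res p * sf false = res dw := by
    have hu : IsUnit (res (V := U false) m) := ⟨um, hum⟩
    refine hu.mul_left_cancel ?_
    rw [mul_left_comm, hm]
    simpa only [res, map_mul] using (congrArg (res (V := U false)) hc).symm
  have hcompat : TopCat.Presheaf.IsCompatible Y.sheaf.1 U sf := by
    intro i j
    change Y.presheaf.map (Opens.infLELeft (U i) (U j)).op (sf i) =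
      Y.presheaf.map (Opens.infLERight (U i) (U j)).op (sf j)
    rcases i with _ | _ <;> rcases j with _ | _
    · rfl
    · have h1 := congrArg (Y.presheaf.map (Opens.infLELeft (U false) (U true)).op) hm'
      have h2 := congrArg (Y.presheaf.map (Opens.infLERight (U false) (U true)).op) hp
      rw [map_mul, res_res, res_res] at h1 h2
      refine IsUnit.mul_left_cancel ?_ (h1.trans h2.symm)
      rw [← res_res (Opens.infLERight (U false) (U true)) p]
      exact IsUnit.map (Y.presheaf.map (Opens.infLERight (U false) (U true)).op).hom ⟨up, hup⟩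
    · have h1 := congrArg (Y.presheaf.map (Opens.infLELeft (U true) (U false)).op) hp
      have h2 := congrArg (Y.presheaf.map (Opens.infLERight (U true) (U false)).op) hm'
      rw [map_mul, res_res, res_res] at h1 h2
      refine IsUnit.mul_left_cancel ?_ (h1.trans h2.symm)
      rw [← res_res (Opens.infLELeft (U true) (U false)) p]
      exact IsUnit.map (Y.presheaf.map (Opens.infLELeft (U true) (U false)).op).hom ⟨up, hup⟩
    · rfl
  have hU : (⊤ : Y.Opens) ≤ iSup U := by rw [iSup_bool_eq]; simp [hcov]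
  obtain ⟨a, ha, -⟩ := Y.sheaf.existsUnique_gluing' U ⊤ (fun b => homOfLE le_top) hU sf hcompat
  refine ⟨a, Y.sheaf.eq_of_locally_eq' U ⊤ (fun b => homOfLE le_top) hU _ _ (fun b => ?_),
    Y.sheaf.eq_of_locally_eq' U ⊤ (fun b => homOfLE le_top) hU _ _ (fun b => ?_)⟩
  all_goals
    have hb : res a = sf b := ha b
    change res (V := U b) _ = res (V := U b) _
    simp only [res, map_mul] at hb ⊢
    rw [hb]
    cases b
  · exact hm'
  · exact hp
  · exact hm
  · exact hp'

end Groth.Agent.STPunc22.Solve
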