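import Groth.Agent.STPunc22.Solve
import Groth.Prelude.Def_AlgSt5
import Groth.Prelude.Def_CoactBr
import Mathlib.AlgebraicGeometry.Sites.Fpqc

/-!
A `G_a`-torsor on the punctured two-branched stack: pulled back to a test scheme `T` with branches `Ts`, `Tt`,
it is an open piece of `T ×_R Spec R[w, z]/(π z - w (w - 1))`.
-/

set_option autoImplicit false
set_option backward.isDefEq.respectTransparency false
set_option backward.isDefEq.respectTransparency.types false

universe u

noncomputable section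

open CategoryTheory CategoryTheory.Limits MonoidalCategory CartesianMonoidalCategory MonObj AlgebraicGeometry
  Opposite

namespace Groth.Agent.STPunc22.Torsor

open Groth.Agent.GrpSchLib

variable {k : Type u} [Field k] {R : Type u} [CommRing R] (π : R)
  (h : Spec (CommRingCat.of R) ⟶ Spec (CommRingCat.of k))

abbrev C : Type u :=
  MvPolynomial (Fin 2) R ⧸
    Ideal.span {(MvPolynomial.C π * MvPolynomial.X 1 - MvPolynomial.X 0 * (MvPolynomial.X 0 - 1) :
      MvPolynomial (Fin 2) R)}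

abbrev wC : C π := Ideal.Quotient.mk _ (MvPolynomial.X 0)
abbrev zC : C π := Ideal.Quotient.mk _ (MvPolynomial.X 1)

theorem C_rel : algebraMap R (C π) π * zC π = wC π * (wC π - 1) := by
  rw [IsScalarTower.algebraMap_apply R (MvPolynomial (Fin 2) R) (C π), Ideal.Quotient.algebraMap_eq,
    MvPolynomial.algebraMap_eq, ← map_one (Ideal.Quotient.mk _), ← map_sub, ← map_mul, ← map_mul]
  exact (Ideal.Quotient.mk_eq_mk_iff_sub_mem _ _).mpr (Ideal.subset_span rfl)

abbrev E : Over (Spec (CommRingCat.of R)) := CoactBr.sp R (C π)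

/-- The constant global function `r`. -/
def cst {Y : Scheme.{u}} (f : Y ⟶ Spec (CommRingCat.of R)) (r : R) : Γ(Y, ⊤) :=
  f.appTop ((Scheme.ΓSpecIso (CommRingCat.of R)).inv r)

theorem cst_comp {Y Y' : Scheme.{u}} (g : Y' ⟶ Y) (f : Y ⟶ Spec (CommRingCat.of R)) (r : R) :
    cst (g ≫ f) r = g.appTop (cst f r) :=
  GmPts.appTop_comp_apply _ _ _

theorem spec_ext {Y : Scheme.{u}} {A : CommRingCat.{u}} (x y : Y ⟶ Spec A)
    (e : ∀ a, x.appTop ((Scheme.ΓSpecIso A).inv a) = y.appTop ((Scheme.ΓSpecIso A).inv a)) : x = y := by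
  apply (ΓSpec.adjunction.homEquiv Y (op A)).symm.injective
  rw [Adjunction.homEquiv_counit, Adjunction.homEquiv_counit, ΓSpec.adjunction_counit_app]
  change ((Scheme.ΓSpecIso A).inv ≫ x.appTop).op = ((Scheme.ΓSpecIso A).inv ≫ y.appTop).op
  congr 1
  ext a
  exact e a

def fn {Y : Scheme.{u}} (q : Y ⟶ (E π).left) (c : C π) : Γ(Y, ⊤) :=
  q.appTop ((Scheme.ΓSpecIso (CommRingCat.of (C π))).inv c)

theorem fn_algebraMap {Y : Scheme.{u}} (q : Y ⟶ (E π).left) (r : R) :
    fn π q (algebraMap R (C π) r) = cst (q ≫ (E π).hom) r := by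
  rw [cst, fn, GmPts.appTop_comp_apply]
  congr 1
  exact ConcreteCategory.congr_hom
    (Scheme.ΓSpecIso_inv_naturality (CommRingCat.ofHom (algebraMap R (C π)))) r

/-- The structure map of global functions over `R`. -/
def cstHom {Y : Scheme.{u}} (f : Y ⟶ Spec (CommRingCat.of R)) : R →+* Γ(Y, ⊤) :=
  f.appTop.hom.comp (Scheme.ΓSpecIso (CommRingCat.of R)).inv.hom

/-- The ring map given by two functions. -/
def toHom {Y : Scheme.{u}} (f : Y ⟶ Spec (CommRingCat.of R)) (w z : Γ(Y, ⊤))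
    (hrel : cst f π * z = w * (w - 1)) : C π →+* Γ(Y, ⊤) :=
  Ideal.Quotient.lift (Ideal.span _) (MvPolynomial.eval₂Hom (cstHom f) ![w, z]) (fun a ha => by
    obtain ⟨c, rfl⟩ := Ideal.mem_span_singleton'.mp ha
    have e : cstHom f π * z - w * (w - 1) = 0 := sub_eq_zero.mpr hrel
    simp [e])

/-- The map `Y ⟶ E` given by two functions. -/
def toE {Y : Scheme.{u}} (f : Y ⟶ Spec (CommRingCat.of R)) (w z : Γ(Y, ⊤))
    (hrel : cst f π * z = w * (w - 1)) : Y ⟶ (E π).left :=
  ΓSpec.adjunction.homEquiv Y (op (CommRingCat.of (C π))) (CommRingCat.ofHom (toHom π f w z hrel)).op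

theorem fn_toE_eq {Y : Scheme.{u}} (f : Y ⟶ Spec (CommRingCat.of R)) (w z : Γ(Y, ⊤))
    (hrel : cst f π * z = w * (w - 1)) (c : C π) :
    fn π (toE π f w z hrel) c = toHom π f w z hrel c :=
  DFunLike.congr_fun (congrArg CommRingCat.Hom.hom
    (ΓSpecIso_inv_ΓSpec_adjunction_homEquiv (CommRingCat.ofHom (toHom π f w z hrel)))) c

variable {π}

theorem fn_toE {Y : Scheme.{u}} (f : Y ⟶ Spec (CommRingCat.of R)) (w z : Γ(Y, ⊤))
    (hrel : cst f π * z = w * (w - 1)) :
    fn π (toE π f w z hrel) (wC π) = w ∧ fn π (toE π f w z hrel) (zC π) = z := by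
  constructor <;> simp [fn_toE_eq, toHom]

theorem toE_over {Y : Scheme.{u}} (f : Y ⟶ Spec (CommRingCat.of R)) (w z : Γ(Y, ⊤))
    (hrel : cst f π * z = w * (w - 1)) : toE π f w z hrel ≫ (E π).hom = f := by
  refine spec_ext _ _ fun r => ?_
  change cst (toE π f w z hrel ≫ (E π).hom) r = cst f r
  rw [← fn_algebraMap, fn_toE_eq, IsScalarTower.algebraMap_apply R (MvPolynomial (Fin 2) R) (C π),
    Ideal.Quotient.algebraMap_eq, MvPolynomial.algebraMap_eq, toHom, Ideal.Quotient.lift_mk, MvPolynomial.eval₂Hom_C]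
  rfl

theorem E_ext {Y : Scheme.{u}} {p q : Y ⟶ (E π).left} (ho : p ≫ (E π).hom = q ≫ (E π).hom)
    (hw : fn π p (wC π) = fn π q (wC π)) (hz : fn π p (zC π) = fn π q (zC π)) : p = q := by
  refine spec_ext _ _ fun a => ?_
  have key : p.appTop.hom.comp (Scheme.ΓSpecIso (CommRingCat.of (C π))).inv.hom =
      q.appTop.hom.comp (Scheme.ΓSpecIso (CommRingCat.of (C π))).inv.hom := by
    refine Ideal.Quotient.ringHom_ext (MvPolynomial.ringHom_ext (fun r => ?_) (fun i => ?_))
    · have := congrArg (fun f => cst f r) ho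
      simp only [← fn_algebraMap] at this
      exact this
    · fin_cases i
      · exact hw
      · exact hz
  exact DFunLike.congr_fun key a

/-! ### Test data -/

variable (π)

/-- An `R`-scheme with the two branches. -/
structure Dat where
  T : Over (Spec (CommRingCat.of R))
  Ts : T.left.Opens
  Tt : T.left.Opens
  cover : Ts ⊔ Tt = ⊤
  overlap : Ts ⊓ Tt ≤ T.left.basicOpen (cst T.hom π)

variable {π}
variable (D : Dat π)

abbrev amb : Scheme.{u} := pullback D.T.hom (E π).hom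

abbrev tA : amb D ⟶ D.T.left := pullback.fst _ _
abbrev piA : Γ(amb D, ⊤) := cst (tA D ≫ D.T.hom) π
abbrev wA : Γ(amb D, ⊤) := fn π (pullback.snd D.T.hom (E π).hom) (wC π)
abbrev zA : Γ(amb D, ⊤) := fn π (pullback.snd D.T.hom (E π).hom) (zC π)

def Wopen : (amb D).Opens :=
  (tA D ⁻¹ᵁ D.Ts ⊓ ((amb D).basicOpen (piA D) ⊔ (amb D).basicOpen (wA D - 1))) ⊔
    (tA D ⁻¹ᵁ D.Tt ⊓ ((amb D).basicOpen (piA D) ⊔ (amb D).basicOpen (wA D)))

variable {D}

theorem fn_comp {Y Y' : Scheme.{u}} (g : Y' ⟶ Y) (q : Y ⟶ (E π).left) (c : C π) :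
    fn π (g ≫ q) c = g.appTop (fn π q c) :=
  GmPts.appTop_comp_apply _ _ _

variable {Y : Scheme.{u}}

abbrev tq (q : Y ⟶ (Wopen D).toScheme) : Y ⟶ D.T.left := q ≫ (Wopen D).ι ≫ tA D
abbrev pq (t : Y ⟶ D.T.left) : Γ(Y, ⊤) := cst (t ≫ D.T.hom) π
def wq (q : Y ⟶ (Wopen D).toScheme) : Γ(Y, ⊤) :=
  fn π (q ≫ (Wopen D).ι ≫ pullback.snd D.T.hom (E π).hom) (wC π)
def zq (q : Y ⟶ (Wopen D).toScheme) : Γ(Y, ⊤) :=
  fn π (q ≫ (Wopen D).ι ≫ pullback.snd D.T.hom (E π).hom) (zC π)

theorem rel (q : Y ⟶ (Wopen D).toScheme) : pq (tq q) * zq q = wq q * (wq q - 1) := by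
  have e : tq q ≫ D.T.hom = (q ≫ (Wopen D).ι ≫ pullback.snd D.T.hom (E π).hom) ≫ (E π).hom := by
    simp only [tq, tA, Category.assoc, pullback.condition]
  rw [pq, e, ← fn_algebraMap, zq, wq]
  let φ : C π →+* Γ(Y, ⊤) := (q ≫ (Wopen D).ι ≫ pullback.snd D.T.hom (E π).hom).appTop.hom.comp
    (Scheme.ΓSpecIso (CommRingCat.of (C π))).inv.hom
  change φ _ * φ _ = φ _ * (φ _ - 1)
  rw [← map_mul, C_rel, map_mul, map_sub, map_one]

theorem wq_comp {Y' : Scheme.{u}} (g : Y' ⟶ Y) (q : Y ⟶ (Wopen D).toScheme) :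
    wq (g ≫ q) = g.appTop (wq q) := by
  rw [wq, wq, Category.assoc, fn_comp]

theorem zq_comp {Y' : Scheme.{u}} (g : Y' ⟶ Y) (q : Y ⟶ (Wopen D).toScheme) :
    zq (g ≫ q) = g.appTop (zq q) := by
  rw [zq, zq, Category.assoc, fn_comp]

theorem pq_comp {Y' : Scheme.{u}} (g : Y' ⟶ Y) (t : Y ⟶ D.T.left) :
    pq (g ≫ t) = g.appTop (pq t) := by
  rw [pq, pq, Category.assoc, cst_comp]

theorem branch (q : Y ⟶ (Wopen D).toScheme) (y : Y) :
    (tq q y ∈ D.Ts → y ∈ Y.basicOpen (pq (tq q)) ⊔ Y.basicOpen (wq q - 1)) ∧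
      (tq q y ∈ D.Tt → y ∈ Y.basicOpen (pq (tq q)) ⊔ Y.basicOpen (wq q)) := by
  have hmem : (q ≫ (Wopen D).ι) y ∈ Wopen D := (q y).2
  have epre : ∀ a : Γ(amb D, ⊤), (q ≫ (Wopen D).ι) y ∈ (amb D).basicOpen a →
      y ∈ Y.basicOpen ((q ≫ (Wopen D).ι).appTop a) := fun a ha => by
    rw [← Scheme.preimage_basicOpen_top]; exact ha
  have ep : (q ≫ (Wopen D).ι).appTop (piA D) = pq (tq q) := by
    rw [piA, pq, tq, ← cst_comp]; simp only [Category.assoc]
  have ew : (q ≫ (Wopen D).ι).appTop (wA D) = wq q := by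
    rw [wA, wq, ← fn_comp, Category.assoc]
  have ew1 : (q ≫ (Wopen D).ι).appTop (wA D - 1) = wq q - 1 := by
    rw [map_sub, map_one, ew]
  have hov : tq q y ∈ D.Ts → tq q y ∈ D.Tt → y ∈ Y.basicOpen (pq (tq q)) := fun hs ht => by
    have h1 : tq q y ∈ D.T.left.basicOpen (cst D.T.hom π) := D.overlap ⟨hs, ht⟩
    have h2 : y ∈ Y.basicOpen ((tq q).appTop (cst D.T.hom π)) := by
      rw [← Scheme.preimage_basicOpen_top]; exact h1
    rwa [← cst_comp] at h2
  rcases hmem with ⟨hs, hs'⟩ | ⟨ht, ht'⟩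
  · refine ⟨fun _ => ?_, fun ht => Or.inl (hov hs ht)⟩
    rcases hs' with hp | hw
    · exact Or.inl (ep ▸ epre _ hp)
    · exact Or.inr (ew1 ▸ epre _ hw)
  · refine ⟨fun hs => Or.inl (hov hs ht), fun _ => ?_⟩
    rcases ht' with hp | hw
    · exact Or.inl (ep ▸ epre _ hp)
    · exact Or.inr (ew ▸ epre _ hw)

variable (D)

/-- A point of `W`. -/
def mk (t : Y ⟶ D.T.left) (w z : Γ(Y, ⊤)) (hrel : pq t * z = w * (w - 1))
    (hs : ∀ y : Y, t y ∈ D.Ts → y ∈ Y.basicOpen (pq t) ⊔ Y.basicOpen (w - 1))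
    (ht : ∀ y : Y, t y ∈ D.Tt → y ∈ Y.basicOpen (pq t) ⊔ Y.basicOpen w) : Y ⟶ (Wopen D).toScheme :=
  IsOpenImmersion.lift (Wopen D).ι
    (pullback.lift t (toE π (t ≫ D.T.hom) w z hrel) (toE_over _ _ _ _).symm) (by
      rintro _ ⟨y, rfl⟩
      rw [Scheme.Opens.range_ι]
      let l := pullback.lift t (toE π (t ≫ D.T.hom) w z hrel) (toE_over _ _ _ _).symm
      have e1 : l ≫ tA D = t := pullback.lift_fst _ _ _
      have epre : ∀ a : Γ(amb D, ⊤), y ∈ Y.basicOpen (l.appTop a) → l y ∈ (amb D).basicOpen a := fun a ha => by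
        rw [← Scheme.preimage_basicOpen_top] at ha; exact ha
      have ep : l.appTop (piA D) = pq t := by rw [piA, ← cst_comp, reassoc_of% e1]
      have ew : l.appTop (wA D) = w := by
        rw [wA, ← fn_comp, show l ≫ pullback.snd D.T.hom (E π).hom = _ from pullback.lift_snd _ _ _]
        exact (fn_toE _ _ _ _).1
      have et : tA D (l y) = t y := by rw [← Scheme.Hom.comp_apply, e1]
      rcases (show t y ∈ D.Ts ⊔ D.Tt by rw [D.cover]; trivial) with hy | hy
      · refine Or.inl ⟨show tA D (l y) ∈ D.Ts by rw [et]; exact hy, ?_⟩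
        rcases hs y hy with h' | h'
        · exact Or.inl (epre _ (ep.symm ▸ h'))
        · exact Or.inr (epre _ (by rw [map_sub, map_one, ew]; exact h'))
      · refine Or.inr ⟨show tA D (l y) ∈ D.Tt by rw [et]; exact hy, ?_⟩
        rcases ht y hy with h' | h'
        · exact Or.inl (epre _ (ep.symm ▸ h'))
        · exact Or.inr (epre _ (by rw [ew]; exact h')))

variable {D}

section Mk

variable (t : Y ⟶ D.T.left) (w z : Γ(Y, ⊤)) (hrel : pq t * z = w * (w - 1))
  (hs : ∀ y : Y, t y ∈ D.Ts → y ∈ Y.basicOpen (pq t) ⊔ Y.basicOpen (w - 1))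
  (ht : ∀ y : Y, t y ∈ D.Tt → y ∈ Y.basicOpen (pq t) ⊔ Y.basicOpen w)

theorem tq_mk : tq (mk D t w z hrel hs ht) = t := by
  rw [tq, mk, IsOpenImmersion.lift_fac_assoc]; exact pullback.lift_fst _ _ _

theorem wq_mk : wq (mk D t w z hrel hs ht) = w := by
  rw [wq, mk, IsOpenImmersion.lift_fac_assoc, pullback.lift_snd]; exact (fn_toE _ _ _ _).1

theorem zq_mk : zq (mk D t w z hrel hs ht) = z := by
  rw [zq, mk, IsOpenImmersion.lift_fac_assoc, pullback.lift_snd]; exact (fn_toE _ _ _ _).2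

end Mk

theorem W_ext {q q' : Y ⟶ (Wopen D).toScheme} (et : tq q = tq q') (ew : wq q = wq q') (ez : zq q = zq q') :
    q = q' := by
  refine (cancel_mono (Wopen D).ι).mp (pullback.hom_ext ?_ ?_)
  · simpa only [Category.assoc] using et
  · simp only [Category.assoc]
    refine E_ext ?_ ew ez
    simp only [Category.assoc, ← pullback.condition]
    simpa only [Category.assoc] using congrArg (· ≫ D.T.hom) et

/-! ### The torsor -/

variable (D)

abbrev baseOb : Over (Spec (CommRingCat.of k)) := (Over.map h).obj D.T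

def WP : Over (Spec (CommRingCat.of k)) := Over.mk ((Wopen D).ι ≫ tA D ≫ D.T.hom ≫ h)

def proj : WP h D ⟶ baseOb h D :=
  Over.homMk ((Wopen D).ι ≫ tA D) (Category.assoc _ _ _)

abbrev Gk : Over (Spec (CommRingCat.of k)) := Red.Ga (Spec (CommRingCat.of k))

section Act

variable {D}
variable {Y' : Scheme.{u}} (q : Y' ⟶ (Wopen D).toScheme) (a : Γ(Y', ⊤))

abbrev wAct : Γ(Y', ⊤) := wq q + pq (tq q) * a
abbrev zAct : Γ(Y', ⊤) := zq q + a * (2 * wq q - 1) + pq (tq q) * a ^ 2

theorem act_rel : pq (tq q) * zAct q a = wAct q a * (wAct q a - 1) := by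
  have := rel q
  simp only [wAct, zAct]
  linear_combination this

theorem act_branch (y : Y') :
    (tq q y ∈ D.Ts → y ∈ Y'.basicOpen (pq (tq q)) ⊔ Y'.basicOpen (wAct q a - 1)) ∧
      (tq q y ∈ D.Tt → y ∈ Y'.basicOpen (pq (tq q)) ⊔ Y'.basicOpen (wAct q a)) := by
  have key : ∀ x : Γ(Y', ⊤), y ∈ Y'.basicOpen (pq (tq q)) ⊔ Y'.basicOpen x →
      y ∈ Y'.basicOpen (pq (tq q)) ⊔ Y'.basicOpen (x + pq (tq q) * a) := fun x hx => by
    by_cases hp : y ∈ Y'.basicOpen (pq (tq q))
    · exact Or.inl hp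
    · refine Or.inr ?_
      show y ∈ Y'.basicOpen _
      rw [Solve.mem_basicOpen_iff, map_add, map_mul, Solve.not_mem_basicOpen_iff.mp hp, zero_mul, add_zero,
        ← Solve.mem_basicOpen_iff]
      exact hx.resolve_left hp
  refine ⟨fun hy => ?_, fun hy => key _ ((branch q y).2 hy)⟩
  rw [show wAct q a - 1 = (wq q - 1) + pq (tq q) * a from by simp only [wAct]; ring]
  exact key _ ((branch q y).1 hy)

def actPt : Y' ⟶ (Wopen D).toScheme :=
  mk D (tq q) (wAct q a) (zAct q a) (act_rel q a) (fun y => (act_branch q a y).1) (fun y => (act_branch q a y).2)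

theorem actPt_comp {Y'' : Scheme.{u}} (g : Y'' ⟶ Y') :
    g ≫ actPt q a = actPt (g ≫ q) (g.appTop a) := by
  have et : tq (g ≫ q) = g ≫ tq q := by simp only [tq, Category.assoc]
  refine W_ext ?_ ?_ ?_
  · rw [actPt, actPt, tq_mk, et, tq, Category.assoc]
    exact congrArg (g ≫ ·) (tq_mk _ _ _ _ _ _)
  · rw [wq_comp, actPt, actPt, wq_mk, wq_mk, wAct, wAct, map_add, map_mul, ← wq_comp, ← pq_comp, et]
  · rw [zq_comp, actPt, actPt, zq_mk, zq_mk, zAct, zAct, et, pq_comp g (tq q), zq_comp, wq_comp]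
    simp only [map_add, map_mul, map_sub, map_pow, map_ofNat, map_one]

end Act

def actMor : Gk ⊗ WP h D ⟶ WP h D :=
  Over.homMk (actPt (D := D) (snd Gk (WP h D)).left (Red.gaFn (fst (Gk (k := k)) (WP h D)))) (by
    have e : actPt (D := D) (snd Gk (WP h D)).left (Red.gaFn (fst (Gk (k := k)) (WP h D))) ≫
        (Wopen D).ι ≫ tA D = tq (D := D) (snd Gk (WP h D)).left := tq_mk _ _ _ _ _ _
    refine Eq.trans ?_ (Over.w (snd Gk (WP h D)))
    change _ ≫ (Wopen D).ι ≫ tA D ≫ D.T.hom ≫ h = _ ≫ (Wopen D).ι ≫ tA D ≫ D.T.hom ≫ h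
    rw [reassoc_of% e])

theorem lift_actMor {Z : Over (Spec (CommRingCat.of k))} (x : Z ⟶ Gk) (q : Z ⟶ WP h D) :
    (lift x q ≫ actMor h D).left = actPt (D := D) q.left (Red.gaFn x) := by
  have e1 : (lift x q).left ≫ (snd Gk (WP h D)).left = q.left := by rw [← Over.comp_left, lift_snd]
  have e2 : (lift x q).left.appTop (Red.gaFn (fst (Gk (k := k)) (WP h D))) = Red.gaFn x := by
    rw [← GaPts.gaFn_comp, lift_fst]
  rw [Over.comp_left]
  refine (actPt_comp (D := D) _ _ (lift x q).left).trans ?_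
  rw [e2]
  exact congrArg (fun r => actPt (D := D) r (Red.gaFn x)) e1

theorem actPt_zero {Y' : Scheme.{u}} (q : Y' ⟶ (Wopen D).toScheme) : actPt q 0 = q := by
  refine W_ext (tq_mk _ _ _ _ _ _) ?_ ?_
  · rw [actPt, wq_mk]; simp [wAct]
  · rw [actPt, zq_mk]; simp [zAct]

theorem actPt_add {Y' : Scheme.{u}} (q : Y' ⟶ (Wopen D).toScheme) (a b : Γ(Y', ⊤)) :
    actPt q (a + b) = actPt (actPt q b) a := by
  have et : tq (actPt q b) = tq q := tq_mk _ _ _ _ _ _
  have ew : wq (actPt q b) = wAct q b := wq_mk _ _ _ _ _ _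
  have ez : zq (actPt q b) = zAct q b := zq_mk _ _ _ _ _ _
  refine W_ext ?_ ?_ ?_
  · rw [show tq (actPt q (a + b)) = tq q from tq_mk _ _ _ _ _ _,
      show tq (actPt (actPt q b) a) = tq (actPt q b) from tq_mk _ _ _ _ _ _, et]
  · rw [show wq (actPt q (a + b)) = wAct q (a + b) from wq_mk _ _ _ _ _ _,
      show wq (actPt (actPt q b) a) = wAct (actPt q b) a from wq_mk _ _ _ _ _ _]
    simp only [wAct, et, ew]; ring
  · rw [show zq (actPt q (a + b)) = zAct q (a + b) from zq_mk _ _ _ _ _ _,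
      show zq (actPt (actPt q b) a) = zAct (actPt q b) a from zq_mk _ _ _ _ _ _]
    simp only [zAct, et, ew, ez, wAct]; ring

def action : AlgGrp.Action (Gk (k := k)) (WP h D) where
  act := actMor h D
  one_act := by
    have e : (η[Gk (k := k)] ▷ WP h D) = lift (1 : _ ⟶ Gk) (snd _ _) := by
      rw [← tensorHom_id, ← lift_fst_comp_snd_comp, Category.comp_id, Hom.one_def,
        toUnit_unique (toUnit _) (fst _ _)]
    apply Over.OverMorphism.ext
    rw [e, lift_actMor, GaPts.gaFn_one, actPt_zero, leftUnitor_hom]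
  mul_act := by
    have e1 : (μ[Gk (k := k)] ▷ WP h D) =
        lift ((fst _ _ ≫ fst Gk Gk) * (fst _ _ ≫ snd Gk Gk)) (snd _ (WP h D)) := by
      rw [Hom.mul_def, ← comp_lift, lift_fst_snd, Category.comp_id, ← tensorHom_id, ← lift_fst_comp_snd_comp,
        Category.comp_id]
    have e2 : (α_ (Gk (k := k)) Gk (WP h D)).hom =
        lift (fst _ _ ≫ fst _ _) (lift (fst _ _ ≫ snd _ _) (snd _ _)) := by
      rw [← lift_lift_associator_hom, lift_comp_fst_snd, lift_fst_snd, Category.id_comp]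
    apply Over.OverMorphism.ext
    rw [e1, e2, lift_whiskerLeft_assoc, lift_actMor, lift_actMor, lift_actMor, GaPts.gaFn_mul, actPt_add]

theorem tq_actPt {Y' : Scheme.{u}} (q : Y' ⟶ (Wopen D).toScheme) (a : Γ(Y', ⊤)) :
    actPt q a ≫ (Wopen D).ι ≫ tA D = tq q :=
  tq_mk (D := D) _ _ _ _ _ _

theorem wq_actPt {Y' : Scheme.{u}} (q : Y' ⟶ (Wopen D).toScheme) (a : Γ(Y', ⊤)) :
    wq (actPt q a) = wAct q a :=
  wq_mk (D := D) _ _ _ _ _ _

theorem zq_actPt {Y' : Scheme.{u}} (q : Y' ⟶ (Wopen D).toScheme) (a : Γ(Y', ⊤)) :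
    zq (actPt q a) = zAct q a :=
  zq_mk (D := D) _ _ _ _ _ _

theorem action_proj : actMor h D ≫ proj h D = snd Gk (WP h D) ≫ proj h D := by
  apply Over.OverMorphism.ext
  exact tq_actPt D _ _

theorem isPullback_action : IsPullback (action h D).act (snd Gk (WP h D)) (proj h D) (proj h D) := by
  have key : ∀ {Z : Over (Spec (CommRingCat.of k))} (q1 q2 : Z ⟶ WP h D), q1 ≫ proj h D = q2 ≫ proj h D →
      ∃! x : Z ⟶ Gk, lift x q2 ≫ actMor h D = q1 := by
    intro Z q1 q2 he
    let r1 : Z.left ⟶ (Wopen D).toScheme := q1.left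
    let r2 : Z.left ⟶ (Wopen D).toScheme := q2.left
    have et : tq r1 = tq r2 := congrArg CommaMorphism.left he
    have hcov : Z.left.basicOpen (pq (tq r2)) ⊔ Z.left.basicOpen (wq r1 + wq r2 - 1) = ⊤ := by
      refine top_le_iff.mp fun y _ => ?_
      by_cases hp : y ∈ Z.left.basicOpen (pq (tq r2))
      · exact Or.inl hp
      have hev := Solve.not_mem_basicOpen_iff.mp hp
      have r1' := congrArg (fun x => Z.left.Γevaluation y x) (rel r1)
      have r2' := congrArg (fun x => Z.left.Γevaluation y x) (rel r2)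
      simp only [map_mul, map_sub, map_one, et, hev, zero_mul] at r1' r2'
      refine Or.inr ?_
      show y ∈ Z.left.basicOpen _
      rw [Solve.mem_basicOpen_iff, map_sub, map_add, map_one]
      rcases (show tq r2 y ∈ D.Ts ⊔ D.Tt by rw [D.cover]; trivial) with hy | hy
      · have h1 := ((branch r1 y).1 (et ▸ hy)).resolve_left (et ▸ hp)
        have h2 := ((branch r2 y).1 hy).resolve_left hp
        replace h1 := Solve.mem_basicOpen_iff.mp h1
        replace h2 := Solve.mem_basicOpen_iff.mp h2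
        rw [map_sub, map_one] at h1 h2
        rw [(mul_eq_zero.mp r1'.symm).resolve_right h1, (mul_eq_zero.mp r2'.symm).resolve_right h2]
        simp
      · have h1 := ((branch r1 y).2 (et ▸ hy)).resolve_left (et ▸ hp)
        have h2 := ((branch r2 y).2 hy).resolve_left hp
        replace h1 := Solve.mem_basicOpen_iff.mp h1
        replace h2 := Solve.mem_basicOpen_iff.mp h2
        rw [sub_eq_zero.mp ((mul_eq_zero.mp r1'.symm).resolve_left h1),
          sub_eq_zero.mp ((mul_eq_zero.mp r2'.symm).resolve_left h2)]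
        simp
    obtain ⟨a, ha1, ha2⟩ := Solve.exists_solve hcov (dw := wq r1 - wq r2) (dz := zq r1 - zq r2) (by
      have h1 := rel r1
      have h2 := rel r2
      rw [et] at h1
      linear_combination h2 - h1)
    refine ⟨GaPts.ptOfFn a, ?_, fun x hx => ?_⟩
    · apply Over.OverMorphism.ext
      rw [lift_actMor, GaPts.gaFn_ptOfFn]
      refine W_ext ((tq_mk _ _ _ _ _ _).trans et.symm) ((wq_mk _ _ _ _ _ _).trans ?_) ((zq_mk _ _ _ _ _ _).trans ?_)
      · change wq r2 + pq (tq r2) * a = wq r1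
        linear_combination ha1
      · change zq r2 + a * (2 * wq r2 - 1) + pq (tq r2) * a ^ 2 = zq r1
        linear_combination ha2 + a * ha1
    · refine GaPts.gaFn_injective ?_
      change Red.gaFn x = Red.gaFn (GaPts.ptOfFn a)
      rw [GaPts.gaFn_ptOfFn]
      have hx' : actPt r2 (Red.gaFn x) = r1 := (lift_actMor h D x q2).symm.trans (congrArg CommaMorphism.left hx)
      have hw : wAct r2 (Red.gaFn x) = wq r1 := (wq_mk _ _ _ _ _ _).symm.trans (congrArg wq hx')
      have hz : zAct r2 (Red.gaFn x) = zq r1 := (zq_mk _ _ _ _ _ _).symm.trans (congrArg zq hx')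
      simp only [wAct] at hw
      simp only [zAct] at hz
      refine Solve.unique_solve hcov ?_ ?_
      · linear_combination hw - ha1
      · linear_combination hz - ha2 - Red.gaFn x * hw
  refine IsPullback.of_isLimit' ⟨action_proj h D⟩ (PullbackCone.IsLimit.mk _
    (fun s => lift (key s.fst s.snd s.condition).choose s.snd)
    (fun s => (key s.fst s.snd s.condition).choose_spec.1) (fun s => lift_snd _ _) (fun s m hm1 hm2 => ?_))
  have e : m ≫ fst _ _ = (key s.fst s.snd s.condition).choose :=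
    (key s.fst s.snd s.condition).choose_spec.2 _ (by
      rw [← hm2]
      change lift (m ≫ fst _ _) (m ≫ snd _ _) ≫ _ = _
      rw [← comp_lift, lift_fst_snd, Category.comp_id]; exact hm1)
  rw [← e, ← hm2, ← comp_lift, lift_fst_snd, Category.comp_id]

def sectS : D.Ts.toScheme ⟶ (Wopen D).toScheme :=
  mk D D.Ts.ι 0 0 (by ring)
    (fun y _ => Or.inr (Solve.mem_basicOpen_iff.mpr (by simp)))
    (fun y hy => Or.inl (by
      have h2 : y ∈ D.Ts.toScheme.basicOpen (D.Ts.ι.appTop (cst D.T.hom π)) := by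
        rw [← Scheme.preimage_basicOpen_top]; exact D.overlap ⟨y.2, hy⟩
      rwa [← cst_comp] at h2))

def sectT : D.Tt.toScheme ⟶ (Wopen D).toScheme :=
  mk D D.Tt.ι 1 0 (by ring)
    (fun y hy => Or.inl (by
      have h2 : y ∈ D.Tt.toScheme.basicOpen (D.Tt.ι.appTop (cst D.T.hom π)) := by
        rw [← Scheme.preimage_basicOpen_top]; exact D.overlap ⟨hy, y.2⟩
      rwa [← cst_comp] at h2))
    (fun y _ => Or.inr (Solve.mem_basicOpen_iff.mpr (by simp)))

theorem proj_loc : NonAbH1.IsLocallyTrivialFor Scheme.fppfPrecoverage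
    (Over.mk (proj h D).left : Over (baseOb h D).left) := by
  refine ⟨Presieve.ofArrows (fun b : Bool => (if b then D.Ts else D.Tt).toScheme)
    (fun b => (if b then D.Ts else D.Tt).ι), ?_, ?_⟩
  · rw [Scheme.fppfPrecoverage, Scheme.ofArrows_mem_precoverage_iff]
    refine ⟨fun y => ?_, fun b => ⟨inferInstance, inferInstance⟩⟩
    rcases (show y ∈ D.Ts ⊔ D.Tt by rw [D.cover]; trivial) with hy | hy
    · exact ⟨true, by simpa using hy⟩
    · exact ⟨false, by simpa using hy⟩
  · rintro S' f ⟨b⟩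
    cases b
    · exact ⟨sectT D, tq_mk (D := D) _ _ _ _ _ _⟩
    · exact ⟨sectS D, tq_mk (D := D) _ _ _ _ _ _⟩

/-- The object of `BG_a` over the data `D`. -/
abbrev obj : AlgSt.QuotObj Scheme.fppfPrecoverage (Gk (k := k)) (AlgSt.trivAction Gk) where
  base := baseOb h D
  P := WP h D
  act := action h D
  π := proj h D
  cart := isPullback_action h D
  loc := proj_loc h D
  φ := toUnit _
  eqv := toUnit_unique _ _

/-! ### Functoriality -/

variable {D}
variable {D' : Dat π} (f : D.T ⟶ D'.T) (hfs : f.left ⁻¹ᵁ D'.Ts = D.Ts) (hft : f.left ⁻¹ᵁ D'.Tt = D.Tt)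

theorem pq_f {Y : Scheme.{u}} (t : Y ⟶ D.T.left) : pq (t ≫ f.left) = pq t := by
  rw [pq, pq, Category.assoc, Over.w f]

def topPt : (Wopen D).toScheme ⟶ (Wopen D').toScheme :=
  mk D' (tq (𝟙 _) ≫ f.left) (wq (𝟙 _)) (zq (𝟙 _)) (by rw [pq_f]; exact rel _)
    (fun y hy => by rw [pq_f]; exact (branch (𝟙 _) y).1 (hfs ▸ hy))
    (fun y hy => by rw [pq_f]; exact (branch (𝟙 _) y).2 (hft ▸ hy))

theorem tq_topPt {Y : Scheme.{u}} (q : Y ⟶ (Wopen D).toScheme) :
    tq (q ≫ topPt f hfs hft) = tq q ≫ f.left := by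
  rw [tq, Category.assoc, show topPt f hfs hft ≫ (Wopen D').ι ≫ tA D' = tq (𝟙 _) ≫ f.left from tq_mk _ _ _ _ _ _]
  simp only [tq, Category.assoc, Category.id_comp]

theorem wq_topPt {Y : Scheme.{u}} (q : Y ⟶ (Wopen D).toScheme) : wq (q ≫ topPt f hfs hft) = wq q := by
  rw [wq_comp, topPt, wq_mk, ← wq_comp, Category.comp_id]

theorem zq_topPt {Y : Scheme.{u}} (q : Y ⟶ (Wopen D).toScheme) : zq (q ≫ topPt f hfs hft) = zq q := by
  rw [zq_comp, topPt, zq_mk, ← zq_comp, Category.comp_id]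

def topMor : WP h D ⟶ WP h D' :=
  Over.homMk (topPt f hfs hft) (by
    change topPt f hfs hft ≫ (Wopen D').ι ≫ tA D' ≫ D'.T.hom ≫ h = _
    have e := tq_topPt f hfs hft (𝟙 _)
    simp only [tq, Category.id_comp, Category.assoc] at e
    rw [reassoc_of% e, Over.w_assoc f]
    rfl)

section CartLift

variable {Y' : Scheme.{u}} (p : Y' ⟶ (Wopen D').toScheme) (t : Y' ⟶ D.T.left) (et : tq p = t ≫ f.left)

include hfs hft in
def cartLift : Y' ⟶ (Wopen D).toScheme :=
  mk D t (wq p) (zq p) (by rw [← pq_f f t, ← et]; exact rel _)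
    (fun y hy => by
      rw [← pq_f f t, ← et]
      refine (branch p y).1 ?_
      rw [et]; exact show t y ∈ f.left ⁻¹ᵁ D'.Ts by rw [hfs]; exact hy)
    (fun y hy => by
      rw [← pq_f f t, ← et]
      refine (branch p y).2 ?_
      rw [et]; exact show t y ∈ f.left ⁻¹ᵁ D'.Tt by rw [hft]; exact hy)

theorem tq_cartLift : tq (cartLift f hfs hft p t et) = t := tq_mk (D := D) _ _ _ _ _ _

theorem wq_cartLift : wq (cartLift f hfs hft p t et) = wq p := wq_mk (D := D) _ _ _ _ _ _

theorem zq_cartLift : zq (cartLift f hfs hft p t et) = zq p := zq_mk (D := D) _ _ _ _ _ _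

theorem cartLift_topPt : cartLift f hfs hft p t et ≫ topPt f hfs hft = p :=
  W_ext ((tq_topPt f hfs hft _).trans (by rw [tq_cartLift, et]))
    ((wq_topPt f hfs hft _).trans (wq_cartLift f hfs hft p t et))
    ((zq_topPt f hfs hft _).trans (zq_cartLift f hfs hft p t et))

theorem eq_cartLift (m : Y' ⟶ (Wopen D).toScheme) (h1 : m ≫ topPt f hfs hft = p) (h2 : tq m = t) :
    m = cartLift f hfs hft p t et :=
  W_ext (h2.trans (tq_cartLift f hfs hft p t et).symm)
    (((wq_topPt f hfs hft m).symm.trans (congrArg wq h1)).trans (wq_cartLift f hfs hft p t et).symm)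
    (((zq_topPt f hfs hft m).symm.trans (congrArg zq h1)).trans (zq_cartLift f hfs hft p t et).symm)

end CartLift

def hom : obj h D ⟶ obj h D' where
  base := (Over.map h).map f
  top := topMor h f hfs hft
  eqv := by
    have e : (Gk (k := k)) ◁ topMor h f hfs hft = lift (fst _ _) (snd _ _ ≫ topMor h f hfs hft) := by
      apply CartesianMonoidalCategory.hom_ext <;> simp
    change actMor h D ≫ _ = _ ≫ actMor h D'
    rw [e]
    apply Over.OverMorphism.ext
    rw [lift_actMor, Over.comp_left]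
    refine W_ext ?_ ?_ ?_
    · rw [show tq (actPt _ _) = tq _ from tq_mk (D := D') _ _ _ _ _ _]
      change tq ((actMor h D).left ≫ topPt f hfs hft) = tq ((snd Gk (WP h D)).left ≫ topPt f hfs hft)
      rw [tq_topPt, tq_topPt, show tq (actMor h D).left = tq (snd Gk (WP h D)).left from tq_actPt D _ _]
    · rw [show wq (actPt _ _) = wAct _ _ from wq_mk (D := D') _ _ _ _ _ _]
      change wq ((actMor h D).left ≫ topPt f hfs hft) =
        wq ((snd Gk (WP h D)).left ≫ topPt f hfs hft) +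
          pq (tq ((snd Gk (WP h D)).left ≫ topPt f hfs hft)) * _
      rw [wq_topPt, wq_topPt, tq_topPt, pq_f]
      exact wq_actPt D _ _
    · rw [show zq (actPt _ _) = zAct _ _ from zq_mk (D := D') _ _ _ _ _ _]
      change zq ((actMor h D).left ≫ topPt f hfs hft) =
        zq ((snd Gk (WP h D)).left ≫ topPt f hfs hft) +
          _ * (2 * wq ((snd Gk (WP h D)).left ≫ topPt f hfs hft) - 1) +
          pq (tq ((snd Gk (WP h D)).left ≫ topPt f hfs hft)) * _ ^ 2
      rw [zq_topPt, zq_topPt, wq_topPt, tq_topPt, pq_f]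
      exact zq_actPt D _ _
  cart := by
    refine IsPullback.of_isLimit' ⟨by
      apply Over.OverMorphism.ext
      exact (tq_topPt f hfs hft (𝟙 _)).trans (by simp [tq, proj])⟩
      (PullbackCone.IsLimit.mk _
        (fun s => Over.homMk (cartLift (D := D) f hfs hft s.fst.left s.snd.left
            (congrArg CommaMorphism.left s.condition)) ?_)
        (fun s => Over.OverMorphism.ext (cartLift_topPt f hfs hft _ _ (congrArg CommaMorphism.left s.condition)))
        (fun s => Over.OverMorphism.ext (tq_cartLift f hfs hft _ _ (congrArg CommaMorphism.left s.condition)))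
        (fun s m hm1 hm2 => Over.OverMorphism.ext (eq_cartLift f hfs hft _ _ (congrArg CommaMorphism.left s.condition) _
          (congrArg CommaMorphism.left hm1) (congrArg CommaMorphism.left hm2))))
    refine Eq.trans ?_ (Over.w s.snd)
    change _ ≫ (Wopen D).ι ≫ tA D ≫ D.T.hom ≫ h = s.snd.left ≫ D.T.hom ≫ h
    have e := tq_cartLift (D := D) f hfs hft s.fst.left s.snd.left (congrArg CommaMorphism.left s.condition)
    simp only [tq] at e
    rw [reassoc_of% e]
  wφ := toUnit_unique _ _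

end Groth.Agent.STPunc22.Torsor
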